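import Cfsg.Agent.H85.ThreeP.Setup

/-!
# Simple transitive groups of degree `3 p`: the principal block
-/

set_option linter.unusedSectionVars false
set_option linter.style.haveILetI false
set_option maxHeartbeats 1000000

open scoped ComplexConjugate

namespace Cfsg.Agent.H85.ThreeP

open MulAction CharBasic BlockBasic CycOne

universe u v

variable {G : Type u} [Group G] [Finite G] [Fintype G] {Ω : Type v} [Fintype Ω] [MulAction G Ω]
  {p : ℕ} [hp : Fact p.Prime] {P : Sylow p G} (h : Hyp Ω P)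

include h

/-- A nontrivial irreducible character is faithful. -/
theorem Hyp.faithful_irr (χ : IrrCharacter G) (hχ : χ ≠ trivialIrr) :
    ∀ g : G, (χ : G → ℂ) g = (χ : G → ℂ) 1 → g = 1 := by
  intro g hg
  obtain ⟨N, hN, hmemN, -⟩ := IsChar.exists_kernel (IsIrr.isCharacter χ.2)
  rcases h.eq_bot_or_top N with e | e
  · have := (hmemN g).2 hg
    rwa [e, Subgroup.mem_bot] at this
  · exfalso
    have hconst : ∀ x : G, (χ : G → ℂ) x = (χ : G → ℂ) 1 := fun x =>
      (hmemN x).1 (e ▸ Subgroup.mem_top x)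
    have h1 := classInner_irr_of_ne χ.2 (trivialIrr : IrrCharacter G).2 fun e' => hχ (Subtype.ext e')
    rw [classInner_def] at h1
    simp only [trivialIrr, map_one, mul_one] at h1
    rw [Finset.sum_congr rfl fun x _ => hconst x, Finset.sum_const, Finset.card_univ, nsmul_eq_mul,
      ← Nat.card_eq_fintype_card, apply_one_eq_charDegree, mul_eq_zero, inv_eq_zero, mul_eq_zero,
      Nat.cast_eq_zero, Nat.cast_eq_zero] at h1
    have := Nat.card_pos (α := G)
    have := charDegree_pos χ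
    omega

theorem Hyp.two_le_degree (χ : IrrCharacter G) (hχ : χ ≠ trivialIrr) :
    2 ≤ charDegree (χ : G → ℂ) := by
  have hpos := charDegree_pos χ
  by_contra hlt
  have h1 : (χ : G → ℂ) 1 = 1 := by
    rw [apply_one_eq_charDegree, show charDegree (χ : G → ℂ) = 1 by omega, Nat.cast_one]
  obtain ⟨l, hl⟩ := CharInduce.IsChar.exists_hom_of_degree_one (IsIrr.isCharacter χ.2) h1
  refine h.nonComm ⟨⟨fun a b => ?_⟩⟩
  rw [← mul_inv_eq_one]
  refine h.faithful_irr χ hχ _ ?_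
  rw [hl, hl]
  refine congrArg Units.val ?_
  rw [map_mul, map_inv, map_mul, map_mul, mul_comm (l b), map_one, mul_inv_cancel]

/-- The principal block. -/
structure Data (P : Sylow p G) (θ : IrrCharacter G) (Y : Finset (IrrCharacter G)) (a : ℤ) :
    Prop where
  sign : a = 1 ∨ a = -1
  θ_ne : θ ≠ trivialIrr
  θ_notMem : θ ∉ Y
  triv_notMem : (trivialIrr : IrrCharacter G) ∉ Y
  card_Y : 2 * Y.card + 1 = p
  van : ∀ χ : IrrCharacter G, χ ≠ trivialIrr → χ ≠ θ → χ ∉ Y →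
    ∀ y ∈ (P : Subgroup G), y ≠ 1 → (χ : G → ℂ) y = 0
  θ_val : ∀ y ∈ (P : Subgroup G), y ≠ 1 → (θ : G → ℂ) y = a
  sum_Y : ∀ y ∈ (P : Subgroup G), y ≠ 1 → ∑ u ∈ Y, (u : G → ℂ) y = -(a : ℂ)
  sq_Y : ∀ y ∈ (P : Subgroup G), y ≠ 1 →
    ∑ u ∈ Y, (u : G → ℂ) y * (u : G → ℂ) y = (p : ℂ) - 2
  sum_P : ∀ [Fintype (P : Subgroup G)] [DecidableEq (P : Subgroup G)], ∀ u ∈ Y,
    ∑ y ∈ Finset.univ.erase (1 : (P : Subgroup G)), (u : G → ℂ) y = -2 * (a : ℂ)
  reg : ∀ u ∈ Y, ∀ g : G, ¬ p ∣ orderOf g → (u : G → ℂ) g = (a : ℂ) + (θ : G → ℂ) g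

theorem Hyp.exists_data : ∃ θ Y a, Data P θ Y a := by
  classical
  letI : Fintype (P : Subgroup G) := Fintype.ofFinite _
  have hth := h.th
  have hZ := h.center_eq
  have h5 := h.five_le
  have hp5 : (5 : ℤ) ≤ p := by exact_mod_cast h5
  have hsameAll : ∀ χ ψ : IrrCharacter G, H84.PTwo.Same χ ψ := by
    intro χ ψ z hz
    rw [hZ, Subgroup.mem_bot] at hz
    rw [hz, H54.CB.centralChar_one, H54.CB.centralChar_one]
  have hdeg1 : charDegree ((trivialIrr : IrrCharacter G) : G → ℂ) = 1 := by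
    have h1 := apply_one_eq_charDegree (trivialIrr : IrrCharacter G)
    simp only [trivialIrr] at h1 ⊢
    exact_mod_cast h1.symm
  obtain ⟨X₁, X₂, Y, ε₁, ε₂, δ, hne, hY₁, hY₂, hYc, hε₁, hε₂, hδ, hmem, -, hvan, hval, hsumP,
    hreg⟩ := hth.exists_block trivialIrr (by rw [hdeg1, Nat.dvd_one]; exact hp.out.ne_one)
  have htY : (trivialIrr : IrrCharacter G) ∉ Y := fun hm => by
    have h1 := hsumP _ hm
    simp only [trivialIrr, Finset.sum_const, nsmul_one] at h1
    rw [Finset.card_erase_of_mem (Finset.mem_univ _), Finset.card_univ, ← Nat.card_eq_fintype_card,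
      show Nat.card (P : Subgroup G) = p from h.card_sylow, Nat.cast_sub hp.out.one_le,
      Nat.cast_one] at h1
    have : ((p : ℤ) - 1) = -2 * δ := by exact_mod_cast h1
    rcases hδ with e | e <;> rw [e] at this <;> linarith
  obtain ⟨y₁, hy₁, hy₁1⟩ := h.exists_ne_one
  have hy₁' : (⟨y₁, hy₁⟩ : (P : Subgroup G)) ≠ 1 := fun e => hy₁1 (congrArg Subtype.val e)
  obtain ⟨θ, a, ha, hθne, hθY, hvan', hθval, hreg'⟩ : ∃ (θ : IrrCharacter G) (a : ℤ),
      (a = 1 ∨ a = -1) ∧ θ ≠ trivialIrr ∧ θ ∉ Y ∧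
      (∀ χ, χ ≠ trivialIrr → χ ≠ θ → χ ∉ Y → ∀ y : (P : Subgroup G), y ≠ 1 → (χ : G → ℂ) y = 0) ∧
      (∀ y : (P : Subgroup G), y ≠ 1 → (θ : G → ℂ) y = a) ∧
      ∀ u ∈ Y, ∀ g : G, ¬ p ∣ orderOf g →
        (δ : ℂ) * (u : G → ℂ) g = 1 + (a : ℂ) * (θ : G → ℂ) g := by
    rcases hmem with e | e | e
    · subst e
      have he1 : ε₁ = 1 := by
        have h1 := (hval _ hy₁').1
        simp only [trivialIrr] at h1
        exact_mod_cast h1.symm
      refine ⟨X₂, ε₂, hε₂, hne.symm, hY₂, fun χ => hvan χ (hsameAll _ _),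
        fun y hy => (hval y hy).2.1, fun u hu g hg => ?_⟩
      rw [hreg u hu g hg, he1]
      simp [trivialIrr]
    · subst e
      have he2 : ε₂ = 1 := by
        have h1 := (hval _ hy₁').2.1
        simp only [trivialIrr] at h1
        exact_mod_cast h1.symm
      refine ⟨X₁, ε₁, hε₁, hne, hY₁, fun χ h1 h2 h3 => hvan χ (hsameAll _ _) h2 h1 h3,
        fun y hy => (hval y hy).1, fun u hu g hg => ?_⟩
      rw [hreg u hu g hg, he2]
      simp [trivialIrr, add_comm]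
    · exact absurd e htY
  have hone' := h.not_singular_one
  obtain ⟨u₀, hu₀⟩ : ∃ u, u ∈ Y := Finset.card_pos.1 (by omega)
  have hdu : (δ : ℤ) * (charDegree (u₀ : G → ℂ) : ℤ) = 1 + a * charDegree (θ : G → ℂ) := by
    have h1 := hreg' u₀ hu₀ 1 hone'
    rw [apply_one_eq_charDegree, apply_one_eq_charDegree] at h1
    exact_mod_cast h1
  have hd0 := charDegree_pos θ
  have hdu0 := charDegree_pos u₀
  have hδa : δ = a := by
    rcases ha with e | e <;> rcases hδ with e' | e' <;> rw [e, e'] at hdu ⊢ <;> omega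
  subst hδa
  have hlift : ∀ {Q : ↥(P : Subgroup G) → Prop}, (∀ y : (P : Subgroup G), y ≠ 1 → Q y) →
      ∀ (y : G) (hy : y ∈ (P : Subgroup G)), y ≠ 1 → Q ⟨y, hy⟩ :=
    fun hQ y hy hy1 => hQ _ fun e => hy1 (congrArg Subtype.val e)
  refine ⟨θ, Y, δ, hδ, hθne, hθY, htY, hYc, fun χ h1 h2 h3 => hlift (hvan' χ h1 h2 h3),
    hlift hθval, hlift fun y hy => (hval y hy).2.2.1,
    hlift (Q := fun y => ∑ u ∈ Y, (u : G → ℂ) (y : G) * (u : G → ℂ) (y : G) = (p : ℂ) - 2) ?_,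
    fun {i₁ i₂} u hu => ?_,
    fun u hu g hg => ?_⟩
  · intro y hy
    have hy' : (y : G) ≠ 1 := fun e => hy (Subtype.ext e)
    have h1 := second_orthogonality_self (y : G)
    rw [hth.centralizer_singleton hZ y.2 hy', show Nat.card (P : Subgroup G) = p from h.card_sylow,
      ← Finset.sum_subset (Finset.subset_univ (insert trivialIrr (insert θ Y))) fun χ _ hχ => by
        simp only [Finset.mem_insert, not_or] at hχ
        rw [hvan' χ hχ.1 hχ.2.1 hχ.2.2 y hy, zero_mul],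
      Finset.sum_insert (by simp [hθne.symm, htY]), Finset.sum_insert hθY, hθval y hy,
      Finset.sum_congr rfl fun u hu => by rw [(hval y hy).2.2.2 u hu]] at h1
    simp only [trivialIrr, map_one, mul_one, map_intCast] at h1
    rcases hδ with e | e <;> rw [e] at h1 <;> push_cast at h1 <;> linear_combination h1
  · refine Eq.trans (Finset.sum_congr ?_ fun _ _ => rfl) (hsumP u hu)
    ext; simp
  · have h1 := hreg' u hu g hg
    rcases hδ with e | e <;> rw [e] at h1 ⊢ <;> push_cast at h1 ⊢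
    · linear_combination h1
    · linear_combination -h1

variable {θ : IrrCharacter G} {Y : Finset (IrrCharacter G)} {a : ℤ}

theorem Hyp.singular_conj {g : G} (hg : p ∣ orderOf g) :
    ∃ y ∈ (P : Subgroup G), y ≠ 1 ∧ IsConj y g := by
  obtain ⟨Q, hQ, hg1⟩ := (h.th.singular_iff h.center_eq).1 hg
  obtain ⟨c, hc⟩ := MulAction.exists_smul_eq G P Q
  rw [← hc] at hQ
  refine ⟨_, Fusion.mem_sylow_smul.1 hQ, fun e => hg1 ?_, isConj_iff.2 ⟨c, by group⟩⟩
  have := congrArg (fun z => c * z * c⁻¹) e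
  simpa [mul_assoc] using this

theorem Hyp.θ_singular (D : Data P θ Y a) {g : G} (hg : p ∣ orderOf g) :
    (θ : G → ℂ) g = a := by
  obtain ⟨y, hy, hy1, hc⟩ := h.singular_conj hg
  rw [← (CharBasic.isConj_iff_forall_irr _ _).1 hc θ]
  exact D.θ_val y hy hy1

theorem Hyp.van_singular (D : Data P θ Y a) {χ : IrrCharacter G} (h1 : χ ≠ trivialIrr)
    (h2 : χ ≠ θ) (h3 : χ ∉ Y) {g : G} (hg : p ∣ orderOf g) : (χ : G → ℂ) g = 0 := by
  obtain ⟨y, hy, hy1, hc⟩ := h.singular_conj hg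
  rw [← (CharBasic.isConj_iff_forall_irr _ _).1 hc χ]
  exact D.van χ h1 h2 h3 y hy hy1

theorem Hyp.sum_block (D : Data P θ Y a) (F : IrrCharacter G → ℂ)
    (hF : ∀ χ, χ ≠ trivialIrr → χ ≠ θ → χ ∉ Y → F χ = 0) :
    ∑ χ, F χ = F trivialIrr + (F θ + ∑ u ∈ Y, F u) := by
  classical
  rw [← Finset.sum_subset (Finset.subset_univ (insert trivialIrr (insert θ Y))) fun χ _ hχ => by
      simp only [Finset.mem_insert, not_or] at hχ
      exact hF χ hχ.1 hχ.2.1 hχ.2.2,
    Finset.sum_insert (by simp [D.θ_ne.symm, D.triv_notMem]), Finset.sum_insert D.θ_notMem]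

theorem Hyp.degree_Y (D : Data P θ Y a) {u : IrrCharacter G} (hu : u ∈ Y) :
    (charDegree (u : G → ℂ) : ℤ) = a + charDegree (θ : G → ℂ) := by
  have h1 := D.reg u hu 1 h.not_singular_one
  rw [apply_one_eq_charDegree, apply_one_eq_charDegree] at h1
  exact_mod_cast h1

/-- `θ` takes integer values. -/
theorem Hyp.exists_int (D : Data P θ Y a) :
    ∃ k : G → ℤ, (∀ g, (θ : G → ℂ) g = (k g : ℂ)) ∧ (∀ g, p ∣ orderOf g → k g = a) ∧
      k 1 = charDegree (θ : G → ℂ) ∧ ∀ g, g ≠ 1 → k g < charDegree (θ : G → ℂ) := by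
  classical
  obtain ⟨y, hy, hy1⟩ := h.exists_ne_one
  set f := charDegree (θ : G → ℂ) with hf
  have h5 := h.five_le
  have hf2 : 2 ≤ f := h.two_le_degree θ D.θ_ne
  have hfa : (0 : ℤ) < a + f := by rcases D.sign with e | e <;> omega
  have hint : ∀ g : G, ∃ k : ℤ, (θ : G → ℂ) g = (k : ℂ) := by
    intro g
    by_cases hg : p ∣ orderOf g
    · exact ⟨a, h.θ_singular D hg⟩
    set m := (Subgroup.centralizer ({y} : Set G)).index with hm
    have hm0 : (m : ℂ) ≠ 0 := Nat.cast_ne_zero.2 Subgroup.FiniteIndex.index_ne_zero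
    have hG0 : (Nat.card G : ℂ) ≠ 0 := Nat.cast_ne_zero.2 Nat.card_pos.ne'
    have hcoef := H84.coeff_classSum_mul_eq y y g
    rw [H84.coeff_classSum_mul, h.sum_block D _ (fun χ h1 h2 h3 => by
      rw [Cfsg.centralChar, D.van χ h1 h2 h3 y hy hy1]; simp)] at hcoef
    have hden : ((a : ℂ) + (f : ℂ)) ≠ 0 := by exact_mod_cast hfa.ne'
    rw [Finset.sum_congr rfl (g := fun u : IrrCharacter G => ((m : ℂ) ^ 2 / ((a : ℂ) + f) *
      ((a : ℂ) + conj ((θ : G → ℂ) g))) * ((u : G → ℂ) y * (u : G → ℂ) y)) fun u hu => by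
        rw [Cfsg.centralChar, D.reg u hu 1 h.not_singular_one, D.reg u hu g hg,
          apply_one_eq_charDegree θ, ← hf, ← hm, map_add, map_intCast]
        field_simp,
      ← Finset.mul_sum, D.sq_Y y hy hy1, Cfsg.centralChar, Cfsg.centralChar, D.θ_val y hy hy1,
      apply_one_eq_charDegree θ, ← hf, ← hm] at hcoef
    simp only [trivialIrr, map_one, mul_one, div_one, one_mul] at hcoef
    set N := (Finset.univ.filter fun x : G => IsConj y x ∧ IsConj y (x⁻¹ * g)).card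
    have hfC : (f : ℂ) ≠ 0 := Nat.cast_ne_zero.2 (by omega)
    set A : ℤ := (f : ℤ) * (a + f) + f * ((p : ℤ) - 2) * a with hA
    set B : ℤ := (a + f) + f * ((p : ℤ) - 2) with hB
    have hB0 : 0 < B := by
      have : (0 : ℤ) ≤ f * ((p : ℤ) - 2) := mul_nonneg (by omega) (by omega)
      omega
    have ha2 : (a : ℂ) ^ 2 = 1 := by rcases D.sign with e | e <;> rw [e] <;> norm_num
    field_simp at hcoef
    have key : (m : ℂ) ^ 2 * ((A : ℂ) + (B : ℂ) * conj ((θ : G → ℂ) g)) =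
        (N : ℂ) * (Nat.card G : ℂ) * ((f : ℂ) * ((a : ℂ) + f)) := by
      rw [hA, hB]
      push_cast
      linear_combination -hcoef - (m : ℂ) ^ 2 * ((a : ℂ) + f) * conj ((θ : G → ℂ) g) * ha2
    have hval : conj ((θ : G → ℂ) g) =
        ((((N * Nat.card G : ℕ) : ℤ) * (f * (a + f)) - (m : ℤ) ^ 2 * A : ℤ) : ℚ) /
          (((m : ℤ) ^ 2 * B : ℤ) : ℚ) := by
      rw [eq_div_iff (by
        push_cast
        exact mul_ne_zero (pow_ne_zero 2 hm0) (by exact_mod_cast hB0.ne'))]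
      push_cast
      linear_combination key
    have hθq : (θ : G → ℂ) g =
        (((((N * Nat.card G : ℕ) : ℤ) * (f * (a + f)) - (m : ℤ) ^ 2 * A : ℤ) : ℚ) /
          (((m : ℤ) ^ 2 * B : ℤ) : ℚ) : ℚ) := by
      rw [← Complex.conj_conj ((θ : G → ℂ) g), hval]
      simp
    obtain ⟨z, hz⟩ := H81.int_of_isIntegral_ratCast (hθq ▸ isIntegral_apply θ g)
    exact ⟨z, by rw [hθq, ← hz]; simp⟩
  choose k hk using hint
  refine ⟨k, hk, fun g hg => ?_, ?_, fun g hg1 => ?_⟩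
  · exact Int.cast_injective (α := ℂ) (by rw [← hk, h.θ_singular D hg])
  · exact Int.cast_injective (α := ℂ) (by rw [← hk, apply_one_eq_charDegree]; simp [hf])
  · have h1 := IsChar.norm_le (IsIrr.isCharacter θ.2) g
    rw [hk, apply_one_eq_charDegree θ, ← hf, Complex.norm_intCast, Complex.norm_natCast] at h1
    have h2 : |k g| ≤ (f : ℤ) := by exact_mod_cast h1
    refine lt_of_le_of_ne ((le_abs_self _).trans h2) fun e => hg1 (h.faithful_irr θ D.θ_ne g ?_)
    rw [hk, apply_one_eq_charDegree, ← hf, e]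
    push_cast
    rfl

/-- Every regular element other than `1` is a factor in a product of two conjugates equal to `y`. -/
theorem Hyp.exists_conj_mul (D : Data P θ Y a) {g : G} (hg : g ∈ regEl G p) {y : G}
    (hy : y ∈ (P : Subgroup G)) (hy1 : y ≠ 1) :
    ∃ d : G, IsConj g d ∧ IsConj g (d⁻¹ * y) := by
  classical
  obtain ⟨hg, hg1⟩ := mem_regEl.1 hg
  obtain ⟨k, hk, -, -, hklt⟩ := h.exists_int D
  refine H84.exists_of_coeff_ne_zero ?_
  rw [H84.coeff_classSum_mul_eq]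
  set f := charDegree (θ : G → ℂ) with hf
  set m := ((Subgroup.centralizer ({g} : Set G)).index : ℂ) with hm
  have hm0 : m ≠ 0 := Nat.cast_ne_zero.2 Subgroup.FiniteIndex.index_ne_zero
  have hf2 : 2 ≤ f := h.two_le_degree θ D.θ_ne
  have hden : ((a : ℂ) + (f : ℂ)) ≠ 0 := by
    have : (0 : ℤ) < a + f := by rcases D.sign with e | e <;> omega
    exact_mod_cast this.ne'
  have hfC : (f : ℂ) ≠ 0 := Nat.cast_ne_zero.2 (by omega)
  rw [h.sum_block D _ (fun χ h1 h2 h3 => by rw [D.van χ h1 h2 h3 y hy hy1, map_zero, mul_zero]),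
    Finset.sum_congr rfl (g := fun u : IrrCharacter G =>
      m ^ 2 * ((a : ℂ) + (k g : ℂ)) ^ 2 / ((a : ℂ) + f) * conj ((u : G → ℂ) y)) fun u hu => by
      rw [Cfsg.centralChar, D.reg u hu g hg, D.reg u hu 1 h.not_singular_one, hk g,
        apply_one_eq_charDegree θ, ← hf, ← hm]
      field_simp,
    ← Finset.mul_sum, ← map_sum, D.sum_Y y hy hy1, map_neg, map_intCast, D.θ_val y hy hy1,
    map_intCast, Cfsg.centralChar, Cfsg.centralChar, hk g, apply_one_eq_charDegree θ, ← hf, ← hm]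
  simp only [trivialIrr, map_one, mul_one, div_one, one_mul]
  refine mul_ne_zero (inv_ne_zero (Nat.cast_ne_zero.2 Nat.card_pos.ne')) ?_
  have ha2 : (a : ℂ) ^ 2 = 1 := by rcases D.sign with e | e <;> rw [e] <;> norm_num
  rw [show m * m + ((f : ℂ) * (m * (k g : ℂ) / f * (m * (k g : ℂ) / f)) * (a : ℂ) +
      m ^ 2 * ((a : ℂ) + (k g : ℂ)) ^ 2 / ((a : ℂ) + f) * -(a : ℂ)) =
      m ^ 2 * ((f : ℂ) - (k g : ℂ)) ^ 2 / ((f : ℂ) * ((a : ℂ) + f)) by
    field_simp
    linear_combination ((k g : ℂ) ^ 2 - (a : ℂ) * (f : ℂ) - 2 * (k g : ℂ) * (f : ℂ)) * ha2]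
  refine div_ne_zero (mul_ne_zero (pow_ne_zero 2 hm0) (pow_ne_zero 2 ?_)) (mul_ne_zero hfC hden)
  have := hklt g hg1
  rw [sub_ne_zero]
  exact_mod_cast this.ne'

end Cfsg.Agent.H85.ThreeP
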