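import Cfsg.Agent.S0157
import Mathlib.LinearAlgebra.FiniteDimensional.Lemmas

/-!
# The number of cycles of a product
-/

set_option linter.unusedSectionVars false
set_option linter.style.haveILetI false

namespace Cfsg.Agent.H85.ThreeP

open MulAction Module

universe u v

variable {G : Type u} [Group G] {Ω : Type v} [Fintype Ω] [MulAction G Ω]

/-- The number of cycles of an element, fixed points included. -/
noncomputable def cyc (Ω : Type v) [MulAction G Ω] (g : G) : ℕ :=
  Nat.card (Quotient (orbitRel (Subgroup.zpowers g) Ω))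

/-- The functions constant on the cycles. -/
noncomputable def fixFun (Ω : Type v) [MulAction G Ω] (g : G) : Submodule ℚ (Ω → ℚ) where
  carrier := {f | ∀ z : Ω, f (g • z) = f z}
  add_mem' := by intro f f' hf hf' z; simp [hf z, hf' z]
  zero_mem' := by intro z; simp
  smul_mem' := by intro c f hf z; simp [hf z]

theorem mem_fixFun {g : G} {f : Ω → ℚ} : f ∈ fixFun Ω g ↔ ∀ z : Ω, f (g • z) = f z := Iff.rfl

theorem eq_of_mem_fixFun {g : G} {f : Ω → ℚ} (hf : f ∈ fixFun Ω g) {z : Ω}
    (k : Subgroup.zpowers g) : f (k • z) = f z := by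
  let S : Subgroup G :=
    { carrier := {k | ∀ z : Ω, f (k • z) = f z}
      one_mem' := fun z => by rw [one_smul]
      mul_mem' := fun {a b} ha hb z => by rw [mul_smul, ha, hb]
      inv_mem' := fun {a} ha z => by
        have := ha (a⁻¹ • z)
        rw [smul_inv_smul] at this
        exact this.symm }
  exact (Subgroup.zpowers_le.2 (show g ∈ S from hf)) k.2 z

theorem finrank_fixFun (g : G) : finrank ℚ (fixFun Ω g) = cyc Ω g := by
  classical
  letI : Fintype (Quotient (orbitRel (Subgroup.zpowers g) Ω)) := Fintype.ofFinite _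
  let L : (Quotient (orbitRel (Subgroup.zpowers g) Ω) → ℚ) →ₗ[ℚ] (Ω → ℚ) :=
    LinearMap.funLeft ℚ ℚ (Quotient.mk _)
  have hinj : Function.Injective L :=
    LinearMap.funLeft_injective_of_surjective ℚ ℚ _ Quotient.mk_surjective
  have he : fixFun Ω g = LinearMap.range L := by
    ext f
    constructor
    · intro hf
      refine ⟨fun q => Quotient.liftOn q f fun a b hab => ?_, funext fun z => rfl⟩
      obtain ⟨k, hk⟩ := hab
      rw [← hk]
      exact eq_of_mem_fixFun hf k
    · rintro ⟨F, rfl⟩ z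
      exact congrArg F (Quotient.sound ⟨⟨g, Subgroup.mem_zpowers g⟩, rfl⟩)
  rw [he, LinearMap.finrank_range_of_inj hinj, Module.finrank_pi, cyc, Nat.card_eq_fintype_card]

theorem cyc_one : cyc Ω (1 : G) = Fintype.card Ω := by
  rw [cyc, ← Nat.card_eq_fintype_card]
  refine (Nat.card_congr (Equiv.ofBijective (Quotient.mk _) ⟨fun a b hab => ?_, Quotient.mk_surjective⟩)).symm
  obtain ⟨⟨k, hk⟩, hkb⟩ := Quotient.exact hab
  rw [Subgroup.zpowers_one_eq_bot, Subgroup.mem_bot] at hk
  subst hk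
  rw [← hkb]
  exact one_smul G b

theorem cyc_mul (d d' : G) : cyc Ω d + cyc Ω d' ≤ Fintype.card Ω + cyc Ω (d * d') := by
  rw [← finrank_fixFun, ← finrank_fixFun, ← finrank_fixFun]
  have h1 := Submodule.finrank_sup_add_finrank_inf_eq (fixFun Ω d) (fixFun Ω d')
  have h2 : finrank ℚ ↥(fixFun Ω d ⊔ fixFun Ω d') ≤ Fintype.card Ω :=
    (Submodule.finrank_le _).trans (Module.finrank_pi (R := ℚ)).le
  have h3 : finrank ℚ ↥(fixFun Ω d ⊓ fixFun Ω d') ≤ finrank ℚ ↥(fixFun Ω (d * d')) :=
    Submodule.finrank_mono fun f hf z => by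
      rw [mul_smul, hf.1 (d' • z), hf.2 z]
  omega

theorem cyc_conj (c g : G) : cyc Ω (c * g * c⁻¹) = cyc Ω g := by
  rw [← finrank_fixFun, ← finrank_fixFun]
  let e : (Ω → ℚ) ≃ₗ[ℚ] (Ω → ℚ) := LinearEquiv.funCongrLeft ℚ ℚ (MulAction.toPerm c)
  have he : (fixFun Ω (c * g * c⁻¹)).map e.toLinearMap = fixFun Ω g := by
    ext f
    constructor
    · rintro ⟨F, hF, rfl⟩ z
      show F (c • g • z) = F (c • z)
      have := hF (c • z)
      rwa [mul_smul, mul_smul, inv_smul_smul] at this
    · intro hf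
      refine ⟨fun z => f (c⁻¹ • z), fun z => ?_, funext fun z => congrArg f (inv_smul_smul c z)⟩
      show f (c⁻¹ • (c * g * c⁻¹) • z) = f (c⁻¹ • z)
      rw [mul_smul, mul_smul, inv_smul_smul]
      exact hf _
  rw [← he, LinearEquiv.finrank_map_eq]

theorem cyc_eq_of_isConj {g g' : G} (hg : IsConj g g') : cyc Ω g' = cyc Ω g := by
  obtain ⟨c, rfl⟩ := isConj_iff.1 hg
  exact cyc_conj c g

variable [Finite G]

open scoped Classical in
/-- Fixed points and moved orbit representatives lie in different cycles. -/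
theorem fixed_add_moved_le (K : Subgroup G) (h : K) :
    Nat.card (fixedBy Ω h) +
        Nat.card {q : Quotient (orbitRel K Ω) // h • q.out ≠ q.out} ≤ cyc Ω (h : G) := by
  rw [← Nat.card_sum, cyc]
  let φ : fixedBy Ω h ⊕ {q : Quotient (orbitRel K Ω) // h • q.out ≠ q.out} →
      Quotient (orbitRel (Subgroup.zpowers (h : G)) Ω) :=
    Sum.elim (fun z => Quotient.mk _ z.1) fun q => Quotient.mk _ q.1.out
  have hsingle : ∀ z : Ω, h • z = z → ∀ w : Ω,
      (Quotient.mk (orbitRel (Subgroup.zpowers (h : G)) Ω) w = Quotient.mk _ z) → w = z := by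
    intro z hz w hw
    obtain ⟨⟨k, hk⟩, rfl⟩ := Quotient.exact hw
    obtain ⟨n, rfl⟩ := Subgroup.mem_zpowers_iff.1 hk
    exact Subgroup.zpow_mem (stabilizer G z) (show (h : G) ∈ stabilizer G z from hz) n
  refine Nat.card_le_card_of_injective φ ?_
  rintro (z | q) (z' | q') hh <;> simp only [φ, Sum.elim_inl, Sum.elim_inr] at hh
  · exact congrArg Sum.inl (Subtype.ext (hsingle z'.1 z'.2 _ hh))
  · exfalso
    have e := hsingle z.1 z.2 _ hh.symm
    exact q'.2 (by rw [e]; exact z.2)
  · exfalso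
    have e := hsingle z'.1 z'.2 _ hh
    exact q.2 (by rw [e]; exact z'.2)
  · obtain ⟨⟨k, hk⟩, hk'⟩ := Quotient.exact hh
    have hkK : k ∈ K := by
      obtain ⟨n, rfl⟩ := Subgroup.mem_zpowers_iff.1 hk
      exact K.zpow_mem h.2 n
    refine congrArg Sum.inr (Subtype.ext ?_)
    rw [← Quotient.out_eq q.1, ← Quotient.out_eq q'.1]
    exact Quotient.sound ⟨⟨k, hkK⟩, hk'⟩

end Cfsg.Agent.H85.ThreeP
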