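import Cfsg.Agent.H85.ThreeP.Block

/-!
# Simple transitive groups of degree `3 p`: the permutation character
-/

set_option linter.unusedSectionVars false
set_option linter.style.haveILetI false
set_option maxHeartbeats 1000000

open scoped ComplexConjugate

namespace Cfsg.Agent.H85.ThreeP

open MulAction CharBasic BlockBasic CycOne

universe u v

variable {G : Type u} [Group G] [Finite G] [Fintype G] {Ω : Type v} [Fintype Ω] [MulAction G Ω]
  {p : ℕ} [hp : Fact p.Prime] {P : Sylow p G} (h : Hyp Ω P)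

include h

omit h in
theorem fx_class (c g : G) : fx Ω (c * g * c⁻¹) = fx Ω g := by
  rw [fx, fx, H84.TwoP.card_fixedBy_of_isConj (X := Ω) (isConj_iff.2 ⟨c, rfl⟩ : IsConj g (c * g * c⁻¹))]

theorem Hyp.classInner_one : classInner (fun g : G => (fx Ω g : ℂ)) (fun _ => (1 : ℂ)) = 1 := by
  haveI := h.trans
  obtain ⟨x₀⟩ := h.nonempty
  have hX1 : Nat.card (Quotient (MulAction.orbitRel G Ω)) = 1 := by
    refine Nat.card_eq_one_iff_unique.2 ⟨⟨fun a b => ?_⟩, ⟨Quotient.mk _ x₀⟩⟩
    induction a using Quotient.inductionOn with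
    | h a =>
      induction b using Quotient.inductionOn with
      | h b =>
        obtain ⟨g, rfl⟩ := MulAction.exists_smul_eq G b a
        exact Quotient.sound ⟨g, rfl⟩
  rw [classInner_def]
  simp only [map_one, mul_one, fx, Int.cast_natCast]
  rw [← Nat.cast_sum, S0157.orbit_count Ω, hX1, one_mul,
    inv_mul_cancel₀ (Nat.cast_ne_zero.2 Nat.card_pos.ne')]

variable {θ : IrrCharacter G} {Y : Finset (IrrCharacter G)} {a : ℤ}

/-- An irreducible character vanishing on the singular elements has degree divisible by `p`. -/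
theorem Hyp.dvd_degree (χ : IrrCharacter G)
    (hv : ∀ y ∈ (P : Subgroup G), y ≠ 1 → (χ : G → ℂ) y = 0) : p ∣ charDegree (χ : G → ℂ) := by
  classical
  letI : Fintype (P : Subgroup G) := Fintype.ofFinite _
  obtain ⟨m, hm, -⟩ := h.th.exists_mult χ
  rw [← Finset.add_sum_erase _ _ (Finset.mem_univ (1 : (P : Subgroup G))),
    Finset.sum_eq_zero fun (y : (P : Subgroup G)) hy => hv y y.2 fun e => Finset.ne_of_mem_erase hy (Subtype.ext e),
    add_zero, OneMemClass.coe_one, apply_one_eq_charDegree] at hm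
  exact ⟨m, by exact_mod_cast hm.symm⟩

/-- `θ(1) ≡ a (mod p)`. -/
theorem Hyp.θ_degree (D : Data P θ Y a) : ∃ k : ℕ, (p : ℤ) * k = charDegree (θ : G → ℂ) - a := by
  classical
  letI : Fintype (P : Subgroup G) := Fintype.ofFinite _
  obtain ⟨m, hm, -⟩ := h.th.exists_mult θ
  rw [← Finset.add_sum_erase _ _ (Finset.mem_univ (1 : (P : Subgroup G))),
    Finset.sum_congr rfl fun (y : (P : Subgroup G)) hy => D.θ_val y y.2 fun e => Finset.ne_of_mem_erase hy (Subtype.ext e),
    Finset.sum_const, Finset.card_erase_of_mem (Finset.mem_univ _), Finset.card_univ,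
    ← Nat.card_eq_fintype_card, show Nat.card (P : Subgroup G) = p from h.card_sylow, nsmul_eq_mul,
    Nat.cast_sub hp.out.one_le, Nat.cast_one, OneMemClass.coe_one, apply_one_eq_charDegree] at hm
  have h1 : (p : ℤ) * m = charDegree (θ : G → ℂ) + ((p : ℤ) - 1) * a := by exact_mod_cast hm
  have h2 : (p : ℤ) ∣ (charDegree (θ : G → ℂ) : ℤ) - a := ⟨(m : ℤ) - a, by linear_combination -h1⟩
  obtain ⟨c, hc⟩ := h2
  have hc0 : 0 ≤ c := by
    have := h.two_le_degree θ D.θ_ne
    have : (0 : ℤ) < (p : ℤ) * c := by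
      rw [← hc]; rcases D.sign with e | e <;> omega
    exact (pos_of_mul_pos_right this (Int.natCast_nonneg p)).le
  obtain ⟨c', rfl⟩ := Int.eq_ofNat_of_zero_le hc0
  exact ⟨c', hc.symm⟩

/-- The cases for the permutation character. -/
theorem Hyp.decomp (D : Data P θ Y a) :
    (a = 1 ∧ p = 5 ∧ charDegree (θ : G → ℂ) = 6 ∧
      ∀ g, (fx Ω g : ℂ) = 1 + ∑ u ∈ Y, (u : G → ℂ) g) ∨
    (a = -1 ∧ charDegree (θ : G → ℂ) + 1 = p) ∨
    (a = -1 ∧ charDegree (θ : G → ℂ) + 1 = 2 * p ∧ ∃ χ : IrrCharacter G, χ ≠ trivialIrr ∧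
      χ ≠ θ ∧ χ ∉ Y ∧ charDegree (χ : G → ℂ) = p ∧
      ∀ g, (fx Ω g : ℂ) = 1 + (θ : G → ℂ) g + (χ : G → ℂ) g) ∨
    (a = -1 ∧ charDegree (θ : G → ℂ) + 1 = 3 * p ∧
      ∀ g, (fx Ω g : ℂ) = 1 + (θ : G → ℂ) g) := by
  classical
  letI : Fintype (P : Subgroup G) := Fintype.ofFinite _
  set π : G → ℂ := fun g => (fx Ω g : ℂ) with hπdef
  have hπchar : IsCharacter G π := by
    have e : π = fun g : G => (Nat.card (fixedBy Ω g) : ℂ) := by
      funext g; simp [hπdef, fx]
    rw [e]; exact S0157.isCharacter_perm Ω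
  have hπcl := IsChar.isClassFunction hπchar
  choose n hn using fun χ : IrrCharacter G => classInner_isChar_nat hπchar (IsIrr.isCharacter χ.2)
  have hn1 : n trivialIrr = 1 := by
    apply Nat.cast_injective (R := ℂ)
    rw [← hn, Nat.cast_one]
    exact h.classInner_one
  obtain ⟨y, hy, hy1⟩ := h.exists_ne_one
  have hπy : ∀ z ∈ (P : Subgroup G), z ≠ 1 → π z = 0 := fun z hz hz1 => by
    show ((fx Ω z : ℤ) : ℂ) = 0
    rw [h.fx_singular (by rw [h.orderOf_eq hz hz1]), Int.cast_zero]
  set f := charDegree (θ : G → ℂ) with hf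
  have hf2 : 2 ≤ f := h.two_le_degree θ D.θ_ne
  obtain ⟨u₀, hu₀⟩ : ∃ u, u ∈ Y := Finset.card_pos.1 (by have := D.card_Y; have := h.five_le; omega)
  set e := charDegree (u₀ : G → ℂ) with he
  have hea : (e : ℤ) = a + f := h.degree_Y D hu₀
  have hreg : ∀ u ∈ Y, ∀ g : G, ¬ p ∣ orderOf g → (u : G → ℂ) g = (u₀ : G → ℂ) g :=
    fun u hu g hg => by rw [D.reg u hu g hg, D.reg u₀ hu₀ g hg]
  have hdegY : ∀ u ∈ Y, charDegree (u : G → ℂ) = e := fun u hu => by
    apply Nat.cast_injective (R := ℂ)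
    rw [he, ← apply_one_eq_charDegree, ← apply_one_eq_charDegree]
    exact hreg u hu 1 h.not_singular_one
  have hnY : ∀ u ∈ Y, n u = n u₀ := by
    intro u hu
    apply Nat.cast_injective (R := ℂ)
    rw [← hn, ← hn, classInner_def, classInner_def]
    refine congrArg _ (Finset.sum_congr rfl fun g _ => ?_)
    by_cases hg : p ∣ orderOf g
    · rw [show π g = 0 by show ((fx Ω g : ℤ) : ℂ) = 0; rw [h.fx_singular hg, Int.cast_zero],
        zero_mul, zero_mul]
    · rw [hreg u hu g hg]
  set w := n u₀ with hw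
  set c := n θ with hc
  have hval0 : ∀ g, π g = ∑ χ : IrrCharacter G, (n χ : ℂ) * (χ : G → ℂ) g := fun g => by
    conv_lhs => rw [classFunction_expansion hπcl]
    simp [Finset.sum_apply, hn]
  have hcw : 1 + (c : ℤ) * a - (w : ℤ) * a = 0 := by
    have h1 := hval0 y
    rw [hπy y hy hy1, h.sum_block D _ (fun χ h1 h2 h3 => by rw [D.van χ h1 h2 h3 y hy hy1, mul_zero]),
      Finset.sum_congr rfl (g := fun u : IrrCharacter G => (w : ℂ) * (u : G → ℂ) y)
        fun u hu => by rw [hnY u hu],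
      ← Finset.mul_sum, D.sum_Y y hy hy1, D.θ_val y hy hy1, hn1] at h1
    simp only [trivialIrr, Nat.cast_one, mul_one] at h1
    apply Int.cast_injective (α := ℂ)
    push_cast
    linear_combination -h1
  set S := insert (trivialIrr : IrrCharacter G) (insert θ Y) with hS
  have hmemS : ∀ χ, χ ∉ S → χ ≠ trivialIrr ∧ χ ≠ θ ∧ χ ∉ Y := fun χ hχ => by
    simpa [hS, not_or] using hχ
  set R := Finset.univ \ S with hR
  have hsplitS : ∀ (F : IrrCharacter G → ℕ), ∑ χ, F χ =
      F trivialIrr + F θ + ∑ u ∈ Y, F u + ∑ χ ∈ R, F χ := fun F => by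
    rw [← Finset.sum_sdiff (Finset.subset_univ S), ← hR, hS,
      Finset.sum_insert (by simp [D.θ_ne.symm, D.triv_notMem]), Finset.sum_insert D.θ_notMem]
    omega
  have hdeg1 : charDegree ((trivialIrr : IrrCharacter G) : G → ℂ) = 1 := by
    have h1 := apply_one_eq_charDegree (trivialIrr : IrrCharacter G)
    simp only [trivialIrr] at h1 ⊢
    exact_mod_cast h1.symm
  have htot : 1 + c * f + Y.card * (w * e) + ∑ χ ∈ R, n χ * charDegree (χ : G → ℂ) = 3 * p := by
    have h1 := hsplitS fun χ => n χ * charDegree (χ : G → ℂ)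
    simp only [hn1, one_mul, hdeg1] at h1
    rw [Finset.sum_congr rfl (s₁ := Y) (g := fun _ => w * e) fun u hu => by rw [hnY u hu, hdegY u hu],
      Finset.sum_const,
      smul_eq_mul] at h1
    rw [← h1]
    apply Nat.cast_injective (R := ℂ)
    push_cast
    rw [Finset.sum_congr rfl fun χ _ => by rw [← apply_one_eq_charDegree], ← hval0 1]
    show ((fx Ω (1 : G) : ℤ) : ℂ) = _
    rw [h.fx_one]; push_cast; ring
  have hRdvd : ∀ χ ∈ R, p ∣ charDegree (χ : G → ℂ) := fun χ hχ => by
    obtain ⟨h1, h2, h3⟩ := hmemS χ (Finset.mem_sdiff.1 hχ).2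
    exact h.dvd_degree χ (D.van χ h1 h2 h3)
  obtain ⟨k, hk⟩ := h.θ_degree D
  have hcard := D.card_Y
  have h5 := h.five_le
  have hodd := h.odd
  have hval1 : ∀ g, π g = 1 + (c : ℂ) * (θ : G → ℂ) g + (w : ℂ) * ∑ u ∈ Y, (u : G → ℂ) g +
      ∑ χ ∈ R, (n χ : ℂ) * (χ : G → ℂ) g := fun g => by
    rw [hval0 g, ← Finset.sum_sdiff (Finset.subset_univ S), ← hR, hS,
      Finset.sum_insert (by simp [D.θ_ne.symm, D.triv_notMem]), Finset.sum_insert D.θ_notMem,
      Finset.sum_congr rfl (s₁ := Y) (g := fun u : IrrCharacter G => (w : ℂ) * (u : G → ℂ) g)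
        fun u hu => by rw [hnY u hu],
      ← Finset.mul_sum, hn1]
    simp only [trivialIrr, Nat.cast_one, mul_one]
    ring
  rcases D.sign with ha | ha <;> subst ha
  · -- `a = 1`
    left
    have hw1 : w = c + 1 := by omega
    have hk1 : 1 ≤ k := by
      rcases k with _ | k
      · simp at hk; omega
      · omega
    have hpk : p ≤ p * k := Nat.le_mul_of_pos_right p hk1
    have hk' : f = p * k + 1 := by
      have : (f : ℤ) = ((p * k + 1 : ℕ) : ℤ) := by push_cast; linarith
      exact_mod_cast this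
    have he' : e = f + 1 := by omega
    have h1 : Y.card * (p + 2) ≤ Y.card * (w * e) :=
      Nat.mul_le_mul_left _ ((show p + 2 ≤ e by omega).trans (Nat.le_mul_of_pos_left _ (by omega)))
    have hp5 : p = 5 := by
      by_contra hne
      have h3 : 3 * (p + 2) ≤ Y.card * (p + 2) := Nat.mul_le_mul_right _ (by omega)
      omega
    have hY2 : Y.card = 2 := by omega
    rw [hY2] at htot
    rw [hp5] at hk'
    have hk2 : k = 1 ∧ c = 0 := by
      have : k = 1 := by
        by_contra hne
        have : 2 * (1 * e) ≤ 2 * (w * e) := Nat.mul_le_mul_left _ (Nat.mul_le_mul_right _ (by omega))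
        omega
      subst this
      refine ⟨rfl, ?_⟩
      by_contra hne
      have : 2 * (2 * e) ≤ 2 * (w * e) := Nat.mul_le_mul_left _ (Nat.mul_le_mul_right _ (by omega))
      omega
    obtain ⟨rfl, hc0⟩ := hk2
    have hw' : w = 1 := by omega
    rw [hc0, hw', hp5] at htot
    have hR0 : ∀ χ ∈ R, n χ = 0 := by
      intro χ hχ
      by_contra hne
      have h2 := Finset.single_le_sum (f := fun χ => n χ * charDegree (χ : G → ℂ))
        (fun _ _ => Nat.zero_le _) hχ
      have h3 : 0 < n χ * charDegree (χ : G → ℂ) :=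
        Nat.mul_pos (Nat.pos_of_ne_zero hne) (charDegree_pos χ)
      omega
    refine ⟨rfl, hp5, by omega, fun g => ?_⟩
    show π g = _
    rw [hval1 g, hc0, hw', Finset.sum_eq_zero (s := R) fun χ hχ => by rw [hR0 χ hχ, Nat.cast_zero, zero_mul]]
    push_cast; ring
  · -- `a = -1`
    right
    have hk1 : 1 ≤ k := by
      rcases k with _ | k
      · simp at hk; omega
      · omega
    have hfk : f + 1 = p * k := by
      have : ((f + 1 : ℕ) : ℤ) = ((p * k : ℕ) : ℤ) := by push_cast; linarith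
      exact_mod_cast this
    rcases Nat.lt_or_ge k 2 with hk2 | hk2
    · left
      exact ⟨rfl, by rw [show k = 1 by omega, mul_one] at hfk; exact hfk⟩
    right
    have hpk : 2 * p ≤ p * k := by rw [mul_comm 2 p]; exact Nat.mul_le_mul_left _ hk2
    have hw0 : w = 0 := by
      by_contra hne
      have h1 : Y.card * 1 ≤ Y.card * (w * e) :=
        Nat.mul_le_mul_left _ (Nat.mul_pos (Nat.pos_of_ne_zero hne) (by omega))
      have h2 : 2 * f ≤ c * f := Nat.mul_le_mul_right _ (by omega)
      omega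
    have hc1 : c = 1 := by omega
    rw [hw0, hc1, Nat.zero_mul, Nat.mul_zero, add_zero, one_mul] at htot
    have hk3 : k ≤ 3 := by
      by_contra hne
      have : p * 4 ≤ p * k := Nat.mul_le_mul_left _ (by omega)
      omega
    have hval2 : ∀ g, π g = 1 + (θ : G → ℂ) g + ∑ χ ∈ R, (n χ : ℂ) * (χ : G → ℂ) g := fun g => by
      rw [hval1 g, hw0, hc1]; push_cast; ring
    rcases (show k = 2 ∨ k = 3 by omega) with rfl | rfl
    · left
      obtain ⟨χ, hχ, hχ0⟩ : ∃ χ ∈ R, n χ * charDegree (χ : G → ℂ) ≠ 0 := by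
        refine Finset.exists_ne_zero_of_sum_ne_zero ?_
        omega
      obtain ⟨m, hm⟩ := hRdvd χ hχ
      have hdecp := (Finset.add_sum_erase R (fun χ => n χ * charDegree (χ : G → ℂ)) hχ)
      have hm0 : 0 < m := by
        rcases Nat.eq_zero_or_pos m with e | e
        · rw [e, mul_zero] at hm; rw [hm, mul_zero] at hχ0; exact absurd rfl hχ0
        · exact e
      have hnpos : 0 < n χ := Nat.pos_of_ne_zero fun e => hχ0 (by rw [e, zero_mul])
      have hge : p ≤ n χ * charDegree (χ : G → ℂ) := by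
        rw [hm]; exact (Nat.le_mul_of_pos_right p hm0).trans (Nat.le_mul_of_pos_left _ hnpos)
      have hchip : n χ * charDegree (χ : G → ℂ) = p := by omega
      have hnχ : n χ = 1 ∧ charDegree (χ : G → ℂ) = p := by
        have hle : p ≤ charDegree (χ : G → ℂ) := by rw [hm]; exact Nat.le_mul_of_pos_right p hm0
        have : n χ = 1 := by
          by_contra hne
          have : 2 * p ≤ n χ * charDegree (χ : G → ℂ) := Nat.mul_le_mul (by omega) hle
          omega
        refine ⟨this, ?_⟩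
        rw [this, one_mul] at hchip
        exact hchip
      obtain ⟨h1, h2, h3⟩ := hmemS χ (Finset.mem_sdiff.1 hχ).2
      refine ⟨rfl, by omega, χ, h1, h2, h3, hnχ.2, fun g => ?_⟩
      show π g = _
      have hrest : ∀ ψ ∈ R.erase χ, n ψ = 0 := by
        intro ψ hψ
        by_contra hne
        have h4 := Finset.single_le_sum (f := fun χ => n χ * charDegree (χ : G → ℂ))
          (fun _ _ => Nat.zero_le _) hψ
        have h5' : 0 < n ψ * charDegree (ψ : G → ℂ) :=
          Nat.mul_pos (Nat.pos_of_ne_zero hne) (charDegree_pos ψ)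
        omega
      rw [hval2 g, ← Finset.add_sum_erase _ _ hχ,
        Finset.sum_eq_zero fun ψ hψ => by rw [hrest ψ hψ, Nat.cast_zero, zero_mul], hnχ.1]
      push_cast; ring
    · right
      refine ⟨rfl, by omega, fun g => ?_⟩
      show π g = _
      have hrest : ∀ ψ ∈ R, n ψ = 0 := by
        intro ψ hψ
        by_contra hne
        have h4 := Finset.single_le_sum (f := fun χ => n χ * charDegree (χ : G → ℂ))
          (fun _ _ => Nat.zero_le _) hψ
        have h5' : 0 < n ψ * charDegree (ψ : G → ℂ) :=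
          Nat.mul_pos (Nat.pos_of_ne_zero hne) (charDegree_pos ψ)
        omega
      rw [hval2 g, Finset.sum_eq_zero fun ψ hψ => by rw [hrest ψ hψ, Nat.cast_zero, zero_mul],
        add_zero]

end Cfsg.Agent.H85.ThreeP
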