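import Cfsg.Agent.H84.PrimeDegreeTriples

/-!
# The blocks fixed by triple stabilisers in a triply transitive group
-/

set_option linter.style.haveILetI false
set_option linter.unusedSectionVars false

namespace Cfsg.Agent.H85.ThreeP

open MulAction H84.TwoP

variable {G : Type*} [Group G] [Finite G] {α : Type*} [Fintype α] [DecidableEq α] [MulAction G α]

/-- All these blocks have the same size. -/
theorem card_tripleFix_eq (h3 : IsMultiplyPretransitive G α 3) (e e' : Fin 3 ↪ α) :
    (tripleFix G e').card = (tripleFix G e).card := by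
  haveI : IsPretransitive G (Fin 3 ↪ α) := h3
  obtain ⟨g, rfl⟩ := MulAction.exists_smul_eq G e e'
  refine (Finset.card_equiv (MulAction.toPerm g) fun x => ?_).symm
  show x ∈ tripleFix G e ↔ g • x ∈ tripleFix G (g • e)
  rw [mem_tripleFix, mem_tripleFix, stabilizer_smul_eq_stabilizer_map_conj]
  constructor
  · rintro hx _ ⟨k, hk, rfl⟩
    show (g * k * g⁻¹) • g • x = g • x
    rw [mul_smul, mul_smul, inv_smul_smul, hx k hk]
  · intro hx k hk
    have := hx (g * k * g⁻¹) ⟨k, hk, rfl⟩
    rwa [mul_smul, mul_smul, inv_smul_smul, smul_left_cancel_iff] at this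

/-- The orbits on quadruples give orbits of the stabiliser of a triple. -/
theorem quadruples_le (h3 : IsMultiplyPretransitive G α 3) (e : Fin 3 ↪ α) :
    Nat.card (Quotient (orbitRel G (Fin 4 ↪ α))) + 3 ≤
      Nat.card (Quotient (orbitRel (stabilizer G e) α)) := by
  classical
  haveI : IsPretransitive G (Fin 3 ↪ α) := h3
  set K := stabilizer G e with hK
  have hex : ∀ q : Quotient (orbitRel G (Fin 4 ↪ α)), ∃ w : Fin 4 ↪ α,
      Quotient.mk _ w = q ∧ ∀ i : Fin 3, w i.castSucc = e i := by
    intro q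
    induction q using Quotient.inductionOn with
    | h w =>
      obtain ⟨g, hg⟩ := MulAction.exists_smul_eq G (Fin.castSuccEmb.trans w) e
      refine ⟨g • w, Quotient.sound ⟨g, rfl⟩, fun i => ?_⟩
      exact congrArg (fun x : Fin 3 ↪ α => x i) hg
  choose w hwq hwe using hex
  let ψ : Quotient (orbitRel G (Fin 4 ↪ α)) ⊕ Fin 3 → Quotient (orbitRel K α) :=
    Sum.elim (fun q => Quotient.mk _ (w q (Fin.last 3))) fun i => Quotient.mk _ (e i)
  have hfixK : ∀ (k : K) (i : Fin 3), k • e i = e i := fun k i =>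
    congrArg (fun x : Fin 3 ↪ α => x i) k.2
  have hne : ∀ q i, ∀ k : K, k • e i ≠ w q (Fin.last 3) := by
    intro q i k hk
    rw [hfixK, ← hwe q i] at hk
    exact absurd ((w q).injective hk) (Fin.castSucc_ne_last i)
  have hψ : Function.Injective ψ := by
    rintro (q | i) (q' | j) hh <;> simp only [ψ, Sum.elim_inl, Sum.elim_inr] at hh
    · obtain ⟨k, hk⟩ := Quotient.exact hh
      refine congrArg Sum.inl ?_
      rw [← hwq q, ← hwq q']
      refine Quotient.sound ⟨(k : G), Function.Embedding.ext fun i => ?_⟩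
      induction i using Fin.lastCases with
      | last => exact hk
      | cast i =>
        show (k : G) • w q' i.castSucc = w q i.castSucc
        rw [hwe, hwe]
        exact hfixK k i
    · obtain ⟨k, hk⟩ := Quotient.exact hh
      exact absurd hk (hne q j k)
    · obtain ⟨k, hk⟩ := Quotient.exact hh.symm
      exact absurd hk (hne q' i k)
    · obtain ⟨k, hk⟩ := Quotient.exact hh
      exact congrArg Sum.inr (e.injective ((hfixK k j).symm.trans hk).symm)
  simpa [Nat.card_sum] using Nat.card_le_card_of_injective ψ hψ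

/-- The blocks through two points. -/
theorem sub_two_dvd (h3 : IsMultiplyPretransitive G α 3) (e : Fin 3 ↪ α) :
    (tripleFix G e).card - 2 ∣ Fintype.card α - 2 := by
  classical
  set a := e 0
  set b := e 1
  have hab : a ≠ b := e.injective.ne (by decide)
  set S : Finset α := (Finset.univ.erase a).erase b with hS
  have hmemS : ∀ x, x ∈ S ↔ x ≠ b ∧ x ≠ a := fun x => by simp [hS]
  have hsel : ∀ x : α, ∃ e' : Fin 3 ↪ α, x ∈ S → e' 0 = a ∧ e' 1 = b ∧ e' 2 = x := by
    intro x
    by_cases hx : x ∈ S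
    · obtain ⟨e', h0, h1, h2⟩ :=
        exists_triple hab ((hmemS x).1 hx).2.symm ((hmemS x).1 hx).1.symm
      exact ⟨e', fun _ => ⟨h0, h1, h2⟩⟩
    · exact ⟨e, fun h => absurd h hx⟩
  choose E hE using hsel
  set φ : α → Finset α := fun x => ((tripleFix G (E x)).erase a).erase b with hφ
  have hself : ∀ x ∈ S, a ∈ tripleFix G (E x) ∧ b ∈ tripleFix G (E x) ∧ x ∈ tripleFix G (E x) := by
    intro x hx
    obtain ⟨h0, h1, h2⟩ := hE x hx
    have e0 := apply_mem_tripleFix (G := G) (E x) 0
    have e1 := apply_mem_tripleFix (G := G) (E x) 1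
    have e2 := apply_mem_tripleFix (G := G) (E x) 2
    rw [h0] at e0
    rw [h1] at e1
    rw [h2] at e2
    exact ⟨e0, e1, e2⟩
  have hfib : ∀ x ∈ S, S.filter (fun x' => φ x' = φ x) = φ x := by
    intro x hx
    ext x'
    simp only [Finset.mem_filter]
    constructor
    · rintro ⟨hx', he⟩
      rw [← he]
      simp only [hφ, Finset.mem_erase]
      exact ⟨((hmemS x').1 hx').1, ((hmemS x').1 hx').2, (hself x' hx').2.2⟩
    · intro hx'
      simp only [hφ, Finset.mem_erase] at hx'
      have hx'S : x' ∈ S := (hmemS x').2 ⟨hx'.1, hx'.2.1⟩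
      refine ⟨hx'S, ?_⟩
      obtain ⟨h0, h1, h2⟩ := hE x' hx'S
      simp only [hφ]
      rw [tripleFix_eq_of_mem h3 hab (Ne.symm hx'.2.1) (Ne.symm hx'.1) (hself x hx).1 (hself x hx).2.1
        hx'.2.2 h0 h1 h2]
  have hsize : ∀ x ∈ S, (φ x).card = (tripleFix G e).card - 2 := by
    intro x hx
    simp only [hφ]
    rw [Finset.card_erase_of_mem (Finset.mem_erase.2 ⟨hab.symm, (hself x hx).2.1⟩),
      Finset.card_erase_of_mem (hself x hx).1, card_tripleFix_eq h3 e (E x)]
    omega
  have hcard := Finset.card_eq_sum_card_image φ S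
  rw [Finset.sum_congr rfl (g := fun _ => (tripleFix G e).card - 2) fun q hq => by
    obtain ⟨x, hx, rfl⟩ := Finset.mem_image.1 hq
    rw [hfib x hx, hsize x hx], Finset.sum_const, smul_eq_mul] at hcard
  have hScard : S.card = Fintype.card α - 2 := by
    rw [hS, Finset.card_erase_of_mem (Finset.mem_erase.2 ⟨hab.symm, Finset.mem_univ _⟩),
      Finset.card_erase_of_mem (Finset.mem_univ _), Finset.card_univ]
    omega
  rw [← hScard, hcard]
  exact dvd_mul_left _ _

/-- The lines through a point outside a block. -/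
theorem block_bound (h3 : IsMultiplyPretransitive G α 3) (e : Fin 3 ↪ α)
    (hne : tripleFix G e ≠ Finset.univ) :
    ((tripleFix G e).card - 1) * ((tripleFix G e).card - 3) + (tripleFix G e).card + 1 ≤
      Fintype.card α := by
  classical
  obtain ⟨c0, hc0⟩ : ∃ c0, c0 ∉ tripleFix G e := by
    by_contra h0
    push Not at h0
    exact hne (Finset.eq_univ_of_forall h0)
  set F := tripleFix G e with hF
  set a := e 0 with ha
  have haF : a ∈ F := apply_mem_tripleFix e 0
  have hac0 : a ≠ c0 := fun h => hc0 (h ▸ haF)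
  have hsel : ∀ b : {b // b ∈ F.erase a}, ∃ e' : Fin 3 ↪ α,
      e' 0 = a ∧ e' 1 = b.1 ∧ e' 2 = c0 := fun b =>
    exists_triple (Finset.ne_of_mem_erase b.2).symm hac0
      (fun h => hc0 (h ▸ Finset.mem_of_mem_erase b.2))
  choose E hEa hEb hEc using hsel
  set B : {b // b ∈ F.erase a} → Finset α := fun b => tripleFix G (E b) with hB
  have hBa : ∀ b, a ∈ B b := fun b => by simpa [hB, hEa] using apply_mem_tripleFix (G := G) (E b) 0
  have hBb : ∀ b, b.1 ∈ B b := fun b => by simpa [hB, hEb] using apply_mem_tripleFix (G := G) (E b) 1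
  have hBc : ∀ b, c0 ∈ B b := fun b => by simpa [hB, hEc] using apply_mem_tripleFix (G := G) (E b) 2
  have hBF : ∀ b, ∀ x ∈ B b, x ∈ F → x = a ∨ x = b.1 := by
    intro b x hx hxF
    by_contra hno
    push Not at hno
    obtain ⟨e', h0, h1, h2⟩ :=
      exists_triple (Finset.ne_of_mem_erase b.2).symm hno.1.symm hno.2.symm
    have e1 := tripleFix_eq_of_mem h3 (Finset.ne_of_mem_erase b.2).symm hno.1.symm hno.2.symm
      (hBa b) (hBb b) hx h0 h1 h2
    have e2 := tripleFix_eq_of_mem h3 (Finset.ne_of_mem_erase b.2).symm hno.1.symm hno.2.symm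
      haF (Finset.mem_of_mem_erase b.2) hxF h0 h1 h2
    have e3 : c0 ∈ tripleFix G e := by
      rw [← e2, e1]
      exact hBc b
    exact hc0 e3
  set C : {b // b ∈ F.erase a} → Finset α := fun b => B b \ {a, b.1, c0} with hC
  have hdisj : ∀ b b', b ≠ b' → Disjoint (C b) (C b') := by
    intro b b' hbb
    refine Finset.disjoint_left.2 fun x hx hx' => ?_
    simp only [hC, Finset.mem_sdiff, Finset.mem_insert, Finset.mem_singleton, not_or] at hx hx'
    obtain ⟨e', h0, h1, h2⟩ := exists_triple hac0 (Ne.symm hx.2.1) (Ne.symm hx.2.2.2)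
    have e1 := tripleFix_eq_of_mem h3 hac0 (Ne.symm hx.2.1) (Ne.symm hx.2.2.2)
      (hBa b) (hBc b) hx.1 h0 h1 h2
    have e2 := tripleFix_eq_of_mem h3 hac0 (Ne.symm hx.2.1) (Ne.symm hx.2.2.2)
      (hBa b') (hBc b') hx'.1 h0 h1 h2
    have hmem : b'.1 ∈ B b := by
      show b'.1 ∈ tripleFix G (E b)
      rw [← e1, e2]
      exact hBb b'
    rcases hBF b b'.1 hmem (Finset.mem_of_mem_erase b'.2) with h | h
    · exact Finset.ne_of_mem_erase b'.2 h
    · exact hbb (Subtype.ext h.symm)
  have hCc : ∀ b, F.card - 3 ≤ (C b).card := fun b => by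
    have h1 := Finset.le_card_sdiff {a, b.1, c0} (B b)
    have h2 : ({a, b.1, c0} : Finset α).card ≤ 3 :=
      (Finset.card_insert_le _ _).trans (by have := Finset.card_le_two (a := b.1) (b := c0); omega)
    have h4 : (B b).card = F.card := card_tripleFix_eq h3 e (E b)
    show F.card - 3 ≤ (B b \ {a, b.1, c0}).card
    omega
  have hsub : Finset.univ.biUnion C ⊆ (insert c0 F)ᶜ := by
    intro x hx
    obtain ⟨b, -, hxb⟩ := Finset.mem_biUnion.1 hx
    simp only [hC, Finset.mem_sdiff, Finset.mem_insert, Finset.mem_singleton, not_or] at hxb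
    simp only [Finset.mem_compl, Finset.mem_insert, not_or]
    refine ⟨hxb.2.2.2, fun hxF => ?_⟩
    rcases hBF b x hxb.1 hxF with h | h
    · exact hxb.2.1 h
    · exact hxb.2.2.1 h
  have hcard := Finset.card_le_card hsub
  rw [Finset.card_biUnion (fun b _ b' _ hbb => hdisj b b' hbb), Finset.card_compl,
    Finset.card_insert_of_notMem hc0] at hcard
  have hlow : (F.card - 1) * (F.card - 3) ≤ ∑ b, (C b).card := by
    refine le_trans ?_ (Finset.card_nsmul_le_sum _ _ _ fun b _ => hCc b)
    rw [Finset.card_univ, Fintype.card_coe, Finset.card_erase_of_mem haF, smul_eq_mul]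
  have hFle : F.card + 1 ≤ Fintype.card α := by
    have := Finset.card_le_univ (insert c0 F)
    rwa [Finset.card_insert_of_notMem hc0] at this
  have := hlow.trans hcard
  omega

end Cfsg.Agent.H85.ThreeP
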