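import Cfsg.Agent.H85.ThreeP.Involutions
import Cfsg.Agent.H85.ThreeP.CycleCount
import Cfsg.Agent.H85.ThreeP.TripleCount

/-!
# The case `θ(1) = 3 p - 1` does not occur
-/

set_option linter.unusedSectionVars false
set_option linter.style.haveILetI false
set_option maxHeartbeats 2000000

namespace Cfsg.Agent.H85.ThreeP

open MulAction CharBasic BlockBasic CycOne H84.TwoP

universe u v

private theorem numeric_m_le {m p : ℕ} (hm4 : p + 11 ≤ 4 * m)
    (hb : (m - 1) * (m - 3) + m + 1 ≤ 3 * p) : m ≤ 11 := by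
  by_contra hlt
  obtain ⟨r, rfl⟩ : ∃ r, m = r + 12 := ⟨m - 12, by omega⟩
  rw [show r + 12 - 1 = r + 11 by omega, show r + 12 - 3 = r + 9 by omega,
    show (r + 11) * (r + 9) = r * r + 20 * r + 99 by ring] at hb
  omega

private theorem numeric_false {m p : ℕ} (hp : p.Prime) (h5 : 5 ≤ p) (hm3 : 3 ≤ m)
    (hm4 : p + 11 ≤ 4 * m) (hb : (m - 1) * (m - 3) + m + 1 ≤ 3 * p)
    (hdvd : m - 2 ∣ 3 * p - 2) : False := by
  have hmu := numeric_m_le hm4 hb
  have hpu : p ≤ 33 := by omega
  interval_cases m <;> interval_cases p <;> first | omega | exact absurd hp (by norm_num)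

variable {G : Type u} [Group G] [Finite G] [Fintype G] {Ω : Type v} [Fintype Ω] [MulAction G Ω]
  {p : ℕ} [hp : Fact p.Prime] {P : Sylow p G} (h : Hyp Ω P)
  {θ : IrrCharacter G} {Y : Finset (IrrCharacter G)} {a : ℤ}

include h

/-- A regular element fixes at most half of the points. -/
theorem Hyp.fx_le_half (D : Data P θ Y a) {g : G} (hg : g ∈ regEl G p) :
    2 * fx Ω g ≤ 3 * p := by
  classical
  obtain ⟨y, hy, hy1⟩ := h.exists_ne_one
  obtain ⟨d, hd, hd'⟩ := h.exists_conj_mul D hg hy hy1
  have hinj : Function.Injective (Sum.elim (fun z : fixedBy Ω d => z.1)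
      (fun z : fixedBy Ω (d⁻¹ * y) => z.1)) := by
    refine Function.Injective.sumElim Subtype.val_injective Subtype.val_injective fun z w hzw => ?_
    refine h.smul_ne hy hy1 z.1 ?_
    have h2 : (d⁻¹ * y) • z.1 = z.1 := hzw.symm ▸ w.2
    rwa [mul_smul, inv_smul_eq_iff, show d • z.1 = z.1 from z.2] at h2
  have h1 := Nat.card_le_card_of_injective _ hinj
  rw [Nat.card_sum, card_fixedBy_of_isConj (X := Ω) hd, card_fixedBy_of_isConj (X := Ω) hd',
    Nat.card_eq_fintype_card (α := Ω), h.card_pts] at h1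
  simp only [fx]
  omega

/-- A regular element has at most `(3 p + 3) / 2` cycles. -/
theorem Hyp.cyc_le (D : Data P θ Y a) {g : G} (hg : g ∈ regEl G p) :
    2 * cyc Ω g ≤ 3 * p + 3 := by
  classical
  obtain ⟨y, hy, hy1⟩ := h.exists_ne_one
  obtain ⟨d, hd, hd'⟩ := h.exists_conj_mul D hg hy hy1
  have h1 := cyc_mul (Ω := Ω) d (d⁻¹ * y)
  rw [mul_inv_cancel_left, cyc_eq_of_isConj hd, cyc_eq_of_isConj hd', h.card_pts] at h1
  have hy3 : cyc Ω y = 3 := by
    letI : Fintype (Subgroup.zpowers y) := Fintype.ofFinite _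
    have h2 := S0157.orbit_count (G := Subgroup.zpowers y) Ω
    rw [Finset.sum_eq_single (1 : Subgroup.zpowers y), fixedBy_one_eq_univ, Nat.card_univ,
      Nat.card_eq_fintype_card (α := Ω), h.card_pts, Nat.card_zpowers, h.orderOf_eq hy hy1] at h2
    · exact (Nat.eq_of_mul_eq_mul_right hp.out.pos h2.symm)
    · intro z _ hz
      haveI : IsEmpty (fixedBy Ω z) := ⟨fun w => by
        refine h.singular_smul_ne (g := (z : G)) ?_ w.1 w.2
        have hd := Subgroup.card_dvd_of_le (Subgroup.zpowers_le.2 z.2)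
        rw [Nat.card_zpowers, Nat.card_zpowers, h.orderOf_eq hy hy1] at hd
        rcases (Nat.dvd_prime hp.out).1 hd with e | e
        · exact absurd (Subtype.ext (orderOf_eq_one_iff.1 e)) hz
        · rw [e]⟩
      exact Nat.card_of_isEmpty
    · simp
  omega

theorem Hyp.no_doubly_transitive (D : Data P θ Y a) (ha : a = -1)
    (hf : charDegree (θ : G → ℂ) + 1 = 3 * p)
    (hπ : ∀ g, (fx Ω g : ℂ) = 1 + (θ : G → ℂ) g) : False := by
  classical
  subst ha
  haveI := h.trans
  haveI := h.faithful
  obtain ⟨x⟩ := h.nonempty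
  have h5 := h.five_le
  have hodd := h.odd
  set Gc : ℤ := (Nat.card G : ℤ) with hGc
  have hGpos : 0 < Gc := by rw [hGc]; exact_mod_cast Nat.card_pos
  have hG0 : (Nat.card G : ℂ) ≠ 0 := Nat.cast_ne_zero.2 Nat.card_pos.ne'
  set π : G → ℤ := fun g => fx Ω g with hπdef
  have hk : ∀ g, (θ : G → ℂ) g = ((π g - 1 : ℤ) : ℂ) := fun g => by
    push_cast; rw [hπdef, hπ g]; ring
  have hπsing : ∀ g, p ∣ orderOf g → π g = 0 := fun g hg => h.fx_singular hg
  have hπ1 : π 1 = 3 * p := h.fx_one
  have hfI : (charDegree (θ : G → ℂ) : ℤ) = 3 * p - 1 := by omega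
  -- moments
  have S0 : ∑ _g : G, (1 : ℤ) = Gc := by simp [hGc, Nat.card_eq_fintype_card]
  have S1 : ∑ g, π g = Gc := h.sum_fx
  have Sθ : ∑ g, (π g - 1) * (π g - 1) = Gc := by
    have h1 := classInner_irr_self θ.2
    rw [classInner_def, inv_mul_eq_iff_eq_mul₀ hG0, mul_one] at h1
    apply Int.cast_injective (α := ℂ)
    push_cast
    rw [hGc, Int.cast_natCast, ← h1]
    exact Finset.sum_congr rfl fun g _ => by rw [hk, map_intCast]; push_cast; ring
  have hr2 : Nat.card (Quotient (orbitRel G (Fin 2 ↪ Ω))) = 1 := by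
    have h1 := h.sum_fx_pair
    have h2 : ∑ g : G, fx Ω g * (fx Ω g - 1) = 1 * Gc := by
      rw [Finset.sum_congr rfl (g := fun g => (π g - 1) * (π g - 1) + π g - 1)
        fun g _ => by simp only [hπdef]; ring]
      simp only [Finset.sum_add_distrib, Finset.sum_sub_distrib, Sθ, S1, S0]
      ring
    rw [h2] at h1
    exact_mod_cast (mul_right_cancel₀ hGpos.ne' h1.symm :)
  set r3 : ℕ := Nat.card (Quotient (orbitRel G (Fin 3 ↪ Ω))) with hr3
  set r4 : ℕ := Nat.card (Quotient (orbitRel G (Fin 4 ↪ Ω))) with hr4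
  have hd3 : ∀ m : ℕ, ((m.descFactorial 3 : ℕ) : ℤ) = (m : ℤ) * ((m : ℤ) - 1) * ((m : ℤ) - 2) := by
    intro m; rcases m with _ | _ | m <;> simp [Nat.descFactorial] <;> ring
  have hd4 : ∀ m : ℕ, ((m.descFactorial 4 : ℕ) : ℤ) =
      (m : ℤ) * ((m : ℤ) - 1) * ((m : ℤ) - 2) * ((m : ℤ) - 3) := by
    intro m; rcases m with _ | _ | _ | m <;> simp [Nat.descFactorial] <;> ring
  have T3 : ∑ g, π g * (π g - 1) * (π g - 2) = (r3 : ℤ) * Gc := by
    have h1 := sum_descFactorial_fixed (H := G) (X := Ω) 3
    rw [← Nat.cast_inj (R := ℤ)] at h1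
    push_cast at h1
    rw [hr3, hGc, ← h1]
    exact Finset.sum_congr rfl fun g _ => (hd3 _).symm
  have T4 : ∑ g, π g * (π g - 1) * (π g - 2) * (π g - 3) = (r4 : ℤ) * Gc := by
    have h1 := sum_descFactorial_fixed (H := G) (X := Ω) 4
    rw [← Nat.cast_inj (R := ℤ)] at h1
    push_cast at h1
    rw [hr4, hGc, ← h1]
    exact Finset.sum_congr rfl fun g _ => (hd4 _).symm
  set R := regEl G p
  set W : G → ℤ := fun g => (π g - 1) * (π g - 2) with hW
  set fe : ℤ := (3 * p - 1) * (3 * p - 2) with hfe
  have hp0 : (0 : ℤ) < p := by exact_mod_cast hp.out.pos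
  have hp5 : (5 : ℤ) ≤ p := by exact_mod_cast h5
  have hw1 : (p : ℤ) * ∑ g ∈ R, W g = Gc - p * fe := by
    have h1 := h.sum_reg W 2 fun g hg => by simp only [hW]; rw [hπsing g hg]; norm_num
    have h2 : ∑ g, W g = Gc := by
      rw [Finset.sum_congr rfl (g := fun g => (π g - 1) * (π g - 1) - π g + 1)
        fun g _ => by simp only [hW]; ring]
      simp only [Finset.sum_add_distrib, Finset.sum_sub_distrib, Sθ, S1, S0]
      ring
    rw [h2, ← hGc] at h1
    simp only [hW, hπ1] at h1
    exact mul_left_cancel₀ (two_ne_zero : (2 : ℤ) ≠ 0) (by rw [hfe]; linear_combination h1)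
  have hwD : ∑ g ∈ R, W g * (3 * p - π g) = (3 - (r3 : ℤ)) * Gc := by
    have h1 := h.sum_reg (fun g => W g * (3 * p - π g)) (6 * p) fun g hg => by
      simp only [hW]; rw [hπsing g hg]; ring
    have h2 : ∑ g, W g * (3 * p - π g) = (3 * p - (r3 : ℤ)) * Gc := by
      rw [Finset.sum_congr rfl (g := fun g => 3 * (p : ℤ) * ((π g - 1) * (π g - 1)) - 3 * p * π g +
        3 * p * 1 - π g * (π g - 1) * (π g - 2)) fun g _ => by simp only [hW]; ring]
      simp only [Finset.sum_add_distrib, Finset.sum_sub_distrib, ← Finset.mul_sum, Sθ, S1, S0, T3]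
      ring
    rw [h2, ← hGc] at h1
    simp only [hW, hπ1] at h1
    exact mul_left_cancel₀ (show (2 * (p : ℤ)) ≠ 0 by omega) (by linear_combination h1)
  have hwD2 : ∑ g ∈ R, W g * (3 * p - π g) ^ 2 =
      ((r4 : ℤ) + 3 * r3 - 6 * p * r3 + 9 * p) * Gc := by
    have h1 := h.sum_reg (fun g => W g * (3 * p - π g) ^ 2) (18 * p ^ 2) fun g hg => by
      simp only [hW]; rw [hπsing g hg]; ring
    have h2 : ∑ g, W g * (3 * p - π g) ^ 2 =
        ((r4 : ℤ) + 3 * r3 - 6 * p * r3 + 9 * p ^ 2) * Gc := by
      rw [Finset.sum_congr rfl (g := fun g => 9 * (p : ℤ) ^ 2 * ((π g - 1) * (π g - 1)) -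
        9 * p ^ 2 * π g + 9 * p ^ 2 * 1 - 6 * p * (π g * (π g - 1) * (π g - 2)) +
        π g * (π g - 1) * (π g - 2) * (π g - 3) + 3 * (π g * (π g - 1) * (π g - 2)))
        fun g _ => by simp only [hW]; ring]
      simp only [Finset.sum_add_distrib, Finset.sum_sub_distrib, ← Finset.mul_sum, Sθ, S1, S0, T3, T4]
      ring
    rw [h2, ← hGc] at h1
    simp only [hW, hπ1] at h1
    exact mul_left_cancel₀ (show (2 * (p : ℤ)) ≠ 0 by omega) (by linear_combination h1)
  have hW0 : ∀ g, 0 ≤ W g := fun g => by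
    simp only [hW]
    rcases le_or_gt (π g) 1 with e | e
    · exact mul_nonneg_of_nonpos_of_nonpos (by omega) (by omega)
    · exact mul_nonneg (by omega) (by omega)
  have hDpos : ∀ g ∈ R, 0 < 3 * (p : ℤ) - π g := fun g hg => by
    have := h.fx_lt (mem_regEl.1 hg).2
    simp only [hπdef]; omega
  have hDhalf : ∀ g ∈ R, 0 ≤ 2 * (3 * (p : ℤ) - π g) - 3 * p := fun g hg => by
    have := h.fx_le_half D hg
    simp only [hπdef]; omega
  -- the order
  obtain ⟨n, hn, hnC⟩ := h.th.exists_not_mem
  set C := Nat.card (Subgroup.centralizer ({n} : Set G)) with hC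
  have hform := h.order_formula D hk hn hnC
  rw [hfI, ← hC, ← hGc, show (3 * (p : ℤ) - 1 - (π n - 1)) = 3 * p - π n by ring,
    show (-1 + (3 * (p : ℤ) - 1)) = 3 * p - 2 by ring] at hform
  obtain ⟨q, hquniq⟩ := Nat.card_eq_one_iff_unique.1 hr2
  have hquniq' := hquniq
  obtain ⟨q⟩ := hquniq
  have hval : Nat.card {w : Ω // (x, w) ∈ pairsOf q} = 3 * p - 1 := by
    rw [Nat.card_eq_fintype_card, Fintype.card_subtype, show (Finset.univ.filter fun w : Ω =>
      (x, w) ∈ pairsOf q) = Finset.univ.erase x from ?_, Finset.card_erase_of_mem (Finset.mem_univ _),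
      Finset.card_univ, h.card_pts]
    ext w
    simp only [Finset.mem_filter, Finset.mem_univ, true_and, Finset.mem_erase, and_true]
    refine ⟨fun hw e => pairsOf_ne hw e.symm, fun hw => ?_⟩
    haveI : Subsingleton (Quotient (orbitRel G (Fin 2 ↪ Ω))) := (Nat.card_eq_one_iff_unique.1 hr2).1
    obtain ⟨q', hq'⟩ := mem_pairsOf_mk (G := G) (Ne.symm hw)
    exact Subsingleton.elim q' q ▸ hq'
  obtain ⟨B, hB⟩ := pairsOf_valency_dvd q x
  rw [hval] at hB
  have hGB : Gc = 3 * p * ((3 * (p : ℤ) - 1) * B) := by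
    rw [hGc, ← h.stabilizer_card x, hB]
    push_cast [Nat.cast_sub (show 1 ≤ 3 * p by omega)]
    ring
  obtain ⟨d, hd, hdcases⟩ : ∃ d : ℕ, (d : ℤ) = 3 * p - π n ∧ (d = 3 * p - 1 ∨ d = 3 * p - 3) := by
    rcases h.fx_involution hn hnC with e | e
    · exact ⟨3 * p - 1, by simp only [hπdef]; rw [e]; omega, Or.inl rfl⟩
    · exact ⟨3 * p - 3, by simp only [hπdef]; rw [e]; omega, Or.inr rfl⟩
  have heC : (3 * p - 2) * C ^ 2 = 3 * B * d ^ 2 := by
    apply Nat.cast_injective (R := ℤ)
    push_cast [Nat.cast_sub (show 2 ≤ 3 * p by omega)]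
    rw [← hd] at hform
    refine mul_left_cancel₀ (show (p : ℤ) * (3 * p - 1) ≠ 0 from mul_ne_zero hp0.ne' (by omega)) ?_
    linear_combination hform + (d : ℤ) ^ 2 * hGB
  have hcop : Nat.Coprime (3 * p - 2) (3 * d ^ 2) := by
    refine Nat.Coprime.mul_right ?_ (Nat.Coprime.pow_right 2 ?_)
    · exact Nat.coprime_comm.1 ((Nat.prime_three.coprime_iff_not_dvd).2 (by omega))
    · rcases hdcases with e | e <;> subst e
      · rw [show 3 * p - 1 = (3 * p - 2) + 1 by omega]
        exact Nat.coprime_self_add_right.2 (Nat.coprime_one_right _)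
      · rw [show 3 * p - 2 = (3 * p - 3) + 1 by omega]
        exact Nat.coprime_self_add_left.2 (Nat.coprime_one_left _)
  obtain ⟨z, hz⟩ : 3 * p - 2 ∣ B := hcop.dvd_of_dvd_mul_left ⟨C ^ 2, by rw [heC]; ring⟩
  have hC2 : C ^ 2 = 3 * z * d ^ 2 := by
    refine Nat.eq_of_mul_eq_mul_left (show 0 < 3 * p - 2 by omega) ?_
    rw [heC, hz]; ring
  obtain ⟨j, hj⟩ : d ∣ C := (Nat.pow_dvd_pow_iff two_ne_zero).1 ⟨3 * z, by rw [hC2]; ring⟩
  have hd0 : 0 < d := by rcases hdcases with e | e <;> omega
  have hjz : j ^ 2 = 3 * z := by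
    refine Nat.eq_of_mul_eq_mul_left (pow_pos hd0 2) ?_
    rw [← mul_pow, ← hj, hC2]; ring
  obtain ⟨i, hi⟩ : 3 ∣ j := Nat.prime_three.dvd_of_dvd_pow (show 3 ∣ j ^ 2 from ⟨z, hjz⟩)
  have hGq : Gc = (j : ℤ) ^ 2 * (p * fe) := by
    rw [hGB, hfe, hz, show (j : ℤ) ^ 2 = 3 * (z : ℤ) by exact_mod_cast hjz]
    push_cast [Nat.cast_sub (show 2 ≤ 3 * p by omega)]
    ring
  have hfe0 : 0 < fe := by rw [hfe]; exact mul_pos (by omega) (by omega)
  have hj0 : 0 < j := by
    rcases Nat.eq_zero_or_pos j with e | e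
    · rw [e] at hGq; simp at hGq; omega
    · exact e
  have hj9 : (9 : ℤ) ≤ (j : ℤ) ^ 2 := by
    have : 3 ≤ j := by omega
    have : (3 : ℤ) ≤ j := by exact_mod_cast this
    nlinarith
  -- the number of orbits on triples
  haveI hne3 : Nonempty (Fin 3 ↪ Ω) := Function.Embedding.nonempty_of_card_le
    (by rw [Fintype.card_fin, h.card_pts]; omega)
  have hr3pos : 0 < r3 := by
    haveI : Nonempty (Quotient (orbitRel G (Fin 3 ↪ Ω))) := hne3.map (Quotient.mk _)
    rw [hr3]; exact Nat.card_pos
  have hr31 : r3 = 1 := by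
    have h3 : r3 ≤ 3 := by
      by_contra hlt
      have : (0 : ℤ) ≤ (3 - (r3 : ℤ)) * Gc :=
        hwD ▸ Finset.sum_nonneg fun g hg => mul_nonneg (hW0 g) (hDpos g hg).le
      have : (0 : ℤ) ≤ 3 - (r3 : ℤ) := (mul_nonneg_iff_of_pos_right hGpos).1 this
      omega
    by_contra hne
    rcases (show r3 = 2 ∨ r3 = 3 by omega) with e | e
    · rw [e] at hwD
      have h1 : 0 ≤ ∑ g ∈ R, W g * (2 * (3 * (p : ℤ) - π g) - 3 * p) :=
        Finset.sum_nonneg fun g hg => mul_nonneg (hW0 g) (hDhalf g hg)
      rw [Finset.sum_congr rfl (g := fun g => 2 * (W g * (3 * p - π g)) - 3 * ((p : ℤ) * W g))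
        fun g _ => by ring, Finset.sum_sub_distrib, ← Finset.mul_sum, ← Finset.mul_sum,
        ← Finset.mul_sum, hwD, hw1, hGq] at h1
      push_cast at h1
      have h2 : 9 * ((p : ℤ) * fe) ≤ (j : ℤ) ^ 2 * (p * fe) :=
        mul_le_mul_of_nonneg_right hj9 (mul_pos hp0 hfe0).le
      nlinarith
    · rw [e, show ((3 : ℤ) - (3 : ℕ)) * Gc = 0 by norm_num] at hwD
      have hall : ∀ g ∈ R, W g = 0 := fun g hg =>
        (mul_eq_zero.1 ((Finset.sum_eq_zero_iff_of_nonneg fun g hg =>
          mul_nonneg (hW0 g) (hDpos g hg).le).1 hwD g hg)).resolve_right (hDpos g hg).ne'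
      rw [Finset.sum_eq_zero hall, mul_zero, hGq] at hw1
      have : ((j : ℤ) ^ 2 - 1) * (p * fe) = 0 := by linear_combination -hw1
      rcases mul_eq_zero.1 this with e' | e'
      · omega
      · exact (mul_pos hp0 hfe0).ne' e'
  rw [hr31] at hwD hwD2
  push_cast at hwD hwD2
  have hr4p : p ≤ r4 + 2 := by
    by_contra hlt
    have h1 : 0 ≤ ∑ g ∈ R, W g * (3 * (p : ℤ) - π g - 2 * p) ^ 2 :=
      Finset.sum_nonneg fun g _ => mul_nonneg (hW0 g) (sq_nonneg _)
    rw [Finset.sum_congr rfl (g := fun g => W g * (3 * p - π g) ^ 2 - 4 * (p : ℤ) * (W g * (3 * p - π g))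
        + 4 * p * ((p : ℤ) * W g)) fun g _ => by ring,
      Finset.sum_add_distrib, Finset.sum_sub_distrib, ← Finset.mul_sum, ← Finset.mul_sum,
      ← Finset.mul_sum, hwD, hwD2, hw1] at h1
    have h2 : 4 * (p : ℤ) * (p * fe) ≤ ((r4 : ℤ) + 3 - p) * Gc := by linear_combination h1
    have h3 : (r4 : ℤ) + 3 - p ≤ 0 := by omega
    have h4 : ((r4 : ℤ) + 3 - p) * Gc ≤ 0 := mul_nonpos_of_nonpos_of_nonneg h3 hGpos.le
    have : 0 < 4 * (p : ℤ) * (p * fe) := mul_pos (by omega) (mul_pos hp0 hfe0)
    omega
  -- a triple and its stabilizer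
  have h3t : IsMultiplyPretransitive G Ω 3 := by
    haveI : Subsingleton (Quotient (orbitRel G (Fin 3 ↪ Ω))) :=
      (Nat.card_eq_one_iff_unique.1 (hr3 ▸ hr31)).1
    exact ⟨fun u v => orbitRel_apply.1 (Quotient.exact (Subsingleton.elim
      (Quotient.mk (orbitRel G (Fin 3 ↪ Ω)) v) (Quotient.mk _ u)))⟩
  haveI := h3t
  obtain ⟨e⟩ := hne3
  set K := stabilizer G e with hK
  set M := Nat.card (Quotient (orbitRel K Ω)) with hM
  have hMge : p + 1 ≤ M := by
    have := quadruples_le h3t e
    rw [hM, hK]; omega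
  have hKz : Nat.card K = z := by
    have h1 := (stabilizer G e).card_mul_index
    rw [index_stabilizer_of_transitive, Nat.card_eq_fintype_card (α := Fin 3 ↪ Ω),
      Fintype.card_embedding_eq, Fintype.card_fin, h.card_pts] at h1
    simp only [Nat.descFactorial, mul_one, tsub_zero] at h1
    apply Nat.cast_injective (R := ℤ)
    refine mul_right_cancel₀ (show (3 * (p : ℤ)) * fe ≠ 0 from mul_ne_zero (by omega) hfe0.ne') ?_
    rw [← Nat.cast_inj (R := ℤ)] at h1
    push_cast [Nat.cast_sub (show 1 ≤ 3 * p by omega), Nat.cast_sub (show 2 ≤ 3 * p by omega)] at h1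
    rw [hK]
    rw [← hGc, hGq, show (j : ℤ) ^ 2 = 3 * (z : ℤ) by exact_mod_cast hjz] at h1
    rw [hfe] at h1 ⊢
    linear_combination h1
  letI : Fintype K := Fintype.ofFinite _
  have hKe : ∀ (k : K) (i : Fin 3), k • e i = e i := fun k i =>
    congrArg (fun x : Fin 3 ↪ Ω => x i) k.2
  have hKinv : ∀ s : K, orderOf s = 2 → ∀ w : Ω, fx Ω n = 1 ∨ (s • w = w → ∃ i, w = e i) := by
    intro s hs w
    rcases h.fx_involution hn hnC with e1 | e3
    · exact Or.inl e1
    refine Or.inr fun hw => ?_
    by_contra hno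
    push Not at hno
    have hc := h.isConj_involution D hn hnC (s := (s : G)) (by rw [Subgroup.orderOf_coe, hs])
    have h4 : 4 ≤ Nat.card (fixedBy Ω (s : G)) := by
      have := Nat.card_le_card_of_injective (α := Option (Fin 3)) (β := fixedBy Ω (s : G))
        (fun o => o.elim ⟨w, hw⟩ fun i => ⟨e i, hKe s i⟩) (by
          rintro (_ | i) (_ | i') hii <;> simp only [Option.elim] at hii
          · rfl
          · exact absurd (congrArg Subtype.val hii) (hno i')
          · exact absurd (congrArg Subtype.val hii).symm (hno i)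
          · exact congrArg some (e.injective (congrArg Subtype.val hii)))
      simpa [Nat.card_eq_fintype_card] using this
    rw [card_fixedBy_of_isConj (X := Ω) hc] at h4
    simp only [fx] at e3
    omega
  -- orbit lengths
  have hLsum : ∀ [Fintype (Quotient (orbitRel K Ω))],
      ∑ q : Quotient (orbitRel K Ω), Nat.card (orbit K q.out) = 3 * p := by
    intro _
    rw [← h.card_pts, ← Nat.card_eq_fintype_card, ← Nat.card_sigma]
    exact (Nat.card_congr (selfEquivSigmaOrbits K Ω)).symm
  letI : Fintype (Quotient (orbitRel K Ω)) := Fintype.ofFinite _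
  have hLs : ∀ w : Ω, Nat.card (orbit K w) * Nat.card (stabilizer K w) = z := by
    intro w
    rw [← hKz, Nat.card_congr (orbitEquivQuotientStabilizer K w)]
    exact (Subgroup.card_eq_card_quotient_mul_card_subgroup _).symm
  rcases h.fx_involution hn hnC with hn1 | hn3
  · -- involutions fix one point
    have hzodd : z % 2 = 1 := by
      by_contra hne
      haveI : Fact (Nat.Prime 2) := ⟨Nat.prime_two⟩
      obtain ⟨s, hs⟩ := exists_prime_orderOf_dvd_card' (G := K) 2 (by rw [hKz]; omega)
      have hc := h.isConj_involution D hn hnC (s := (s : G)) (by rw [Subgroup.orderOf_coe, hs])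
      have h4 : Nat.card (Fin 3) ≤ Nat.card (fixedBy Ω (s : G)) :=
        Nat.card_le_card_of_injective (fun i => ⟨e i, hKe s i⟩)
          fun i i' hii => e.injective (congrArg Subtype.val hii)
      rw [Nat.card_fin, card_fixedBy_of_isConj (X := Ω) hc] at h4
      simp only [fx] at hn1
      omega
    have hjodd : j % 2 = 1 := by
      rcases Nat.mod_two_eq_zero_or_one j with e0 | e0
      · exfalso
        obtain ⟨l, hl⟩ := Nat.dvd_of_mod_eq_zero e0
        rw [hl] at hjz
        have : (2 * l) ^ 2 = 2 * (2 * (l * l)) := by ring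
        omega
      · exact e0
    have hjp : 2 * p - 1 ≤ j := by
      obtain ⟨Ns, hNs⟩ : ∃ Ns : ℕ, Nat.card G = 2 * p * Ns ∧ (p : ℤ) ∣ (Ns : ℤ) - 1 := by
        refine ⟨Nat.card (Sylow p G), ?_, ?_⟩
        · rw [h.th.card_eq h.center_eq]; ring
        · exact (Int.modEq_iff_dvd.1 (Int.natCast_modEq_iff.2 (card_sylow_modEq_one p G)).symm)
      obtain ⟨hNs, w, hw⟩ := hNs
      have h2N : 2 * (Ns : ℤ) = (j : ℤ) ^ 2 * fe := by
        refine mul_left_cancel₀ hp0.ne' ?_
        have : Gc = 2 * (p : ℤ) * Ns := by rw [hGc, hNs]; push_cast; rfl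
        linear_combination hGq - this
      have hdiv : (p : ℤ) ∣ 2 * (((j : ℤ) - 1) * ((j : ℤ) + 1)) :=
        ⟨2 * w - (j : ℤ) ^ 2 * (9 * p - 9), by rw [hfe] at h2N; linear_combination -h2N + 2 * hw⟩
      have hpi : Prime (p : ℤ) := Nat.prime_iff_prime_int.1 hp.out
      rcases hpi.dvd_or_dvd hdiv with e2 | e2
      · have := Int.le_of_dvd two_pos e2; omega
      rcases hpi.dvd_or_dvd e2 with e2 | e2
      · have e2' : (2 * p : ℤ) ∣ (j : ℤ) - 1 := by
          refine IsCoprime.mul_dvd ?_ (by omega) e2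
          exact (Nat.isCoprime_iff_coprime (m := 2)).2
            ((Nat.coprime_primes Nat.prime_two hp.out).2 (by omega))
        have := Int.le_of_dvd (by omega) e2'
        omega
      · have e2' : (2 * p : ℤ) ∣ (j : ℤ) + 1 := by
          refine IsCoprime.mul_dvd ?_ (by omega) e2
          exact (Nat.isCoprime_iff_coprime (m := 2)).2
            ((Nat.coprime_primes Nat.prime_two hp.out).2 (by omega))
        have := Int.le_of_dvd (by omega) e2'
        omega
    have hLodd : ∀ w : Ω, Nat.card (orbit K w) % 2 = 1 := fun w => by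
      have h1 := hLs w
      rcases Nat.mod_two_eq_zero_or_one (Nat.card (orbit K w)) with e0 | e0
      · exfalso
        rw [← h1, Nat.mul_mod, e0, Nat.zero_mul, Nat.zero_mod] at hzodd
        omega
      · exact e0
    have hModd : M % 2 = 1 := by
      have h1 := congrArg (· % 2) hLsum
      simp only [Finset.sum_nat_mod, hLodd, Finset.sum_const, smul_eq_mul, mul_one,
        Finset.card_univ, ← Nat.card_eq_fintype_card] at h1
      rw [← hM] at h1
      omega
    -- the fixed points of `K`
    set m := (tripleFix G e).card with hm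
    have hm3 : 3 ≤ m := by
      rw [hm]
      have : (Finset.univ.map e).card = 3 := by simp
      rw [← this]
      refine Finset.card_le_card fun w hw => ?_
      obtain ⟨i, -, rfl⟩ := Finset.mem_map.1 hw
      exact apply_mem_tripleFix e i
    set Long := Finset.univ.filter fun q : Quotient (orbitRel K Ω) => q.out ∉ tripleFix G e with hLong
    have hsplit : m + Long.card = M := by
      rw [hM, Nat.card_eq_fintype_card, ← Finset.card_univ,
        ← Finset.card_filter_add_card_filter_not (s := Finset.univ)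
          (fun q : Quotient (orbitRel K Ω) => q.out ∈ tripleFix G e)]
      congr 1
      refine (Finset.card_bij (fun q _ => q.out) (fun q hq => (Finset.mem_filter.1 hq).2)
        (fun q _ q' _ hqq => Quotient.out_injective hqq) fun w hw => ?_).symm
      have he : (Quotient.mk (orbitRel K Ω) w).out = w := by
        obtain ⟨k, hk⟩ := Quotient.exact (Quotient.out_eq (Quotient.mk (orbitRel K Ω) w))
        exact hk.symm.trans (mem_tripleFix.1 hw k k.2)
      exact ⟨Quotient.mk _ w, Finset.mem_filter.2 ⟨Finset.mem_univ _, he.symm ▸ hw⟩, he⟩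
    have hmov : ∀ q ∈ Long, 2 * z ≤ 3 * (Finset.univ.filter fun k : K => k • q.out ≠ q.out).card := by
      intro q hq
      have hL1 : Nat.card (orbit K q.out) ≠ 1 := fun h1 => by
        refine (Finset.mem_filter.1 hq).2 (mem_tripleFix.2 fun k hk => ?_)
        haveI := (Nat.card_eq_one_iff_unique.1 h1).1
        exact congrArg Subtype.val
          (Subsingleton.elim (⟨k • q.out, ⟨⟨k, hk⟩, rfl⟩⟩ : orbit K q.out) ⟨q.out, mem_orbit_self _⟩)
      have hL3 : 3 * Nat.card (stabilizer K q.out) ≤ z := by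
        rw [← hLs q.out]
        refine Nat.mul_le_mul_right _ ?_
        have := hLodd q.out
        omega
      have hsplit2 : (Finset.univ.filter fun k : K => k • q.out ≠ q.out).card +
          Nat.card (stabilizer K q.out) = z := by
        rw [← hKz, Nat.card_eq_fintype_card (α := K), Nat.card_eq_fintype_card, ← Finset.card_univ (α := K),
          ← Finset.card_filter_add_card_filter_not (s := Finset.univ) (fun k : K => k • q.out = q.out),
          add_comm]
        congr 1
        rw [← Fintype.card_subtype]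
        rfl
      omega
    have hsumcyc : 6 * z * M + 4 * z * Long.card + 9 * p + 9 ≤ 18 * p + z * (9 * p + 9) := by
      have h1 : ∑ k : K, (Nat.card (fixedBy Ω k) +
          Nat.card {q : Quotient (orbitRel K Ω) // k • q.out ≠ q.out}) ≤ ∑ k : K, cyc Ω (k : G) :=
        Finset.sum_le_sum fun k _ => fixed_add_moved_le K k
      have h2 : 2 * ∑ k : K, cyc Ω (k : G) + (3 * p + 3) ≤ 6 * p + z * (3 * p + 3) := by
        rw [← Finset.add_sum_erase _ _ (Finset.mem_univ (1 : K)), OneMemClass.coe_one, cyc_one,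
          h.card_pts, mul_add, Finset.mul_sum]
        have h3 : ∑ k ∈ Finset.univ.erase (1 : K), 2 * cyc Ω (k : G) ≤
            ∑ k ∈ Finset.univ.erase (1 : K), (3 * p + 3) := by
          refine Finset.sum_le_sum fun k hk => h.cyc_le D (mem_regEl.2 ⟨fun hd => ?_, fun e1 => ?_⟩)
          · exact h.singular_smul_ne hd (e 0) (hKe k 0)
          · exact Finset.ne_of_mem_erase hk (Subtype.ext e1)
        rw [Finset.sum_const, smul_eq_mul, Finset.card_erase_of_mem (Finset.mem_univ _),
          Finset.card_univ, ← Nat.card_eq_fintype_card, hKz] at h3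
        have : z ≠ 0 := fun e0 => by rw [e0] at hzodd; omega
        obtain ⟨z', rfl⟩ : ∃ z', z = z' + 1 := ⟨z - 1, by omega⟩
        rw [Nat.add_sub_cancel] at h3
        linarith
      have h4 : 2 * z * Long.card ≤
          3 * ∑ k : K, Nat.card {q : Quotient (orbitRel K Ω) // k • q.out ≠ q.out} := by
        have e1 : ∑ k : K, Nat.card {q : Quotient (orbitRel K Ω) // k • q.out ≠ q.out} =
            ∑ q : Quotient (orbitRel K Ω), (Finset.univ.filter fun k : K => k • q.out ≠ q.out).card := by
          simp only [Nat.card_eq_fintype_card, Fintype.card_subtype, Finset.card_filter]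
          exact Finset.sum_comm
        rw [e1, Finset.mul_sum, mul_comm (2 * z), ← smul_eq_mul, ← Finset.sum_const]
        exact (Finset.sum_le_sum hmov).trans
          (Finset.sum_le_sum_of_subset (Finset.subset_univ _))
      have h5 : ∑ k : K, Nat.card (fixedBy Ω k) = M * z := by rw [S0157.orbit_count Ω, hKz]
      rw [Finset.sum_add_distrib, h5] at h1
      have e : 6 * z * M = 6 * (M * z) := by ring
      have e' : 4 * z * Long.card = 2 * (2 * z * Long.card) := by ring
      have e'' : z * (9 * p + 9) = 3 * (z * (3 * p + 3)) := by ring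
      omega
    have hm4 : p + 11 ≤ 4 * m := by
      by_contra hlt
      have hzge : (2 * p - 1) ^ 2 ≤ 3 * z := hjz ▸ Nat.pow_le_pow_left hjp 2
      have hML : 10 * M ≤ 6 * M + 4 * (m + Long.card) := by omega
      have hM2 : p + 2 ≤ M := by omega
      have h1 : z * (10 * M) ≤ 6 * z * M + 4 * z * Long.card + z * (4 * m) := by
        rw [← hsplit]; ring_nf; omega
      have h2 : z * (10 * (p + 2)) ≤ z * (10 * M) := Nat.mul_le_mul_left _ (by omega)
      have h4m : 4 * m + 2 ≤ p + 11 := by omega
      have h3 : z * (4 * m + 2) ≤ z * (p + 11) := Nat.mul_le_mul_left _ h4m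
      obtain ⟨p', rfl⟩ : ∃ p', p = p' + 5 := ⟨p - 5, by omega⟩
      rw [show 2 * (p' + 5) - 1 = 2 * p' + 9 by omega] at hzge
      nlinarith
    have hbound := block_bound h3t e (by
      intro hall
      have h1 : ∀ k : K, k = 1 := fun k => Subtype.ext (eq_of_smul_eq_smul fun w : Ω => by
        rw [OneMemClass.coe_one, one_smul]
        exact (mem_tripleFix (G := G)).1 (by rw [hall]; exact Finset.mem_univ w) k k.2)
      haveI : Subsingleton K := ⟨fun u v => (h1 u).trans (h1 v).symm⟩
      rw [Nat.card_of_subsingleton (1 : K)] at hKz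
      rw [← hKz] at hjz
      have : (j : ℤ) ^ 2 = 3 := by exact_mod_cast hjz
      omega)
    have hdvd := sub_two_dvd h3t e
    rw [← hm, h.card_pts] at hdvd hbound
    exact numeric_false hp.out (by omega) hm3 hm4 hbound hdvd
  · -- involutions fix three points
    haveI : Fact (Nat.Prime 2) := ⟨Nat.prime_two⟩
    have hKinv' : ∀ s : K, orderOf s = 2 → ∀ w : Ω, s • w = w → ∃ i, w = e i := fun s hs w hw =>
      ((hKinv s hs w).resolve_left (by simp only [hn3]; norm_num)) hw
    -- an involution in `K`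
    obtain ⟨s₀, hs₀, hs₀2⟩ : ∃ s ∈ K, orderOf s = 2 := by
      letI : Fintype (fixedBy Ω n) := Fintype.ofFinite _
      obtain ⟨ι⟩ : Nonempty (Fin 3 ↪ fixedBy Ω n) := Function.Embedding.nonempty_of_card_le (by
        rw [Fintype.card_fin, ← Nat.card_eq_fintype_card]; simp only [fx] at hn3; omega)
      obtain ⟨g, hg⟩ := MulAction.exists_smul_eq G (ι.trans (Function.Embedding.subtype _)) e
      refine ⟨g * n * g⁻¹, ?_, ?_⟩
      · rw [hK, mem_stabilizer_iff, ← hg, mul_smul, mul_smul, inv_smul_smul, smul_left_cancel_iff]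
        exact Function.Embedding.ext fun i => (ι i).2
      · rw [← h.orderOf_eq_two hn hnC]
        exact orderOf_injective (MulAut.conj g).toMonoidHom (MulAut.conj g).injective n
    have hzeven : 2 ∣ z := by
      rw [← hKz, ← hs₀2]; exact Subgroup.orderOf_dvd_natCard K hs₀
    have hj2 : 2 ∣ j := Nat.prime_two.dvd_of_dvd_pow (hjz ▸ Dvd.dvd.mul_left hzeven 3 : 2 ∣ j ^ 2)
    have hz4 : 4 ∣ z := by
      obtain ⟨l, rfl⟩ := hj2
      have : (Nat.Coprime 4 3) := by norm_num
      exact this.dvd_of_dvd_mul_left ⟨l * l, by rw [← hjz]; ring⟩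
    have hoddstab : ∀ w : Ω, (∀ i, w ≠ e i) → Nat.card (stabilizer K w) % 2 = 1 := by
      intro w hw
      by_contra hne
      obtain ⟨s, hs⟩ := exists_prime_orderOf_dvd_card' (G := stabilizer K w) 2 (by omega)
      obtain ⟨i, hi⟩ := hKinv' (s : K) (by rw [Subgroup.orderOf_coe, hs]) w s.2
      exact hw i hi
    have hL4 : ∀ w : Ω, (∀ i, w ≠ e i) → 4 ∣ Nat.card (orbit K w) := by
      intro w hw
      refine Nat.Coprime.dvd_of_dvd_mul_right ?_ (hLs w ▸ hz4)
      rw [show (4 : ℕ) = 2 ^ 2 from rfl]
      exact (Nat.prime_two.coprime_iff_not_dvd.2 (by have := hoddstab w hw; omega)).pow_left 2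
    set Fi : Finset (Quotient (orbitRel K Ω)) := Finset.univ.image fun i => Quotient.mk _ (e i) with hFi
    have hFic : Fi.card = 3 := by
      rw [hFi, Finset.card_image_of_injective, Finset.card_univ, Fintype.card_fin]
      intro i i' hii
      obtain ⟨k, hk⟩ := Quotient.exact hii
      exact (e.injective (((hKe k i').symm.trans hk))).symm
    have hnot : ∀ q ∈ Finset.univ \ Fi, ∀ i, q.out ≠ e i := by
      intro q hq i he
      refine (Finset.mem_sdiff.1 hq).2 (Finset.mem_image.2 ⟨i, Finset.mem_univ _, ?_⟩)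
      rw [← he, Quotient.out_eq]
    have hL1 : ∀ q ∈ Fi, 1 ≤ Nat.card (orbit K q.out) := fun q _ =>
      haveI : Nonempty (orbit K q.out) := ⟨⟨_, mem_orbit_self _⟩⟩
      Nat.card_pos
    have hsum4 : 3 + ∑ q ∈ Finset.univ \ Fi, Nat.card (orbit K q.out) ≤ 3 * p := by
      rw [← hLsum, ← Finset.sum_sdiff (Finset.subset_univ Fi), add_comm]
      refine Nat.add_le_add_left ?_ _
      rw [← hFic, Finset.card_eq_sum_ones]
      exact Finset.sum_le_sum hL1
    have hge4 : ∀ q ∈ Finset.univ \ Fi, 4 ≤ Nat.card (orbit K q.out) := fun q hq => by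
      refine Nat.le_of_dvd ?_ (hL4 _ (hnot q hq))
      haveI : Nonempty (orbit K q.out) := ⟨⟨_, mem_orbit_self _⟩⟩
      exact Nat.card_pos
    have hcardsd : (Finset.univ \ Fi).card + 3 = M := by
      rw [hM, Nat.card_eq_fintype_card, ← Finset.card_univ, ← hFic]
      exact Finset.card_sdiff_add_card_eq_card (Finset.subset_univ _)
    have h4M : 4 * (Finset.univ \ Fi).card ≤ ∑ q ∈ Finset.univ \ Fi, Nat.card (orbit K q.out) := by
      rw [mul_comm, ← smul_eq_mul, ← Finset.sum_const]
      exact Finset.sum_le_sum hge4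
    obtain rfl : p = 5 := by omega
    have hM6 : (Finset.univ \ Fi).card = 3 := by omega
    have hex4 : ∀ q ∈ Finset.univ \ Fi, Nat.card (orbit K q.out) = 4 := by
      intro q hq
      refine le_antisymm ?_ (hge4 q hq)
      have h1 := Finset.add_sum_erase _ (fun q => Nat.card (orbit K q.out)) hq
      have h2 : 4 * ((Finset.univ \ Fi).erase q).card ≤
          ∑ q' ∈ (Finset.univ \ Fi).erase q, Nat.card (orbit K q'.out) := by
        rw [mul_comm, ← smul_eq_mul, ← Finset.sum_const]
        exact Finset.sum_le_sum fun q' hq' => hge4 q' (Finset.mem_of_mem_erase hq')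
      rw [Finset.card_erase_of_mem hq] at h2
      omega
    -- every point outside the triple lies in an orbit of length four
    have horb4 : ∀ w : Ω, (∀ i, w ≠ e i) → Nat.card (orbit K w) = 4 := by
      intro w hw
      have hq : Quotient.mk (orbitRel K Ω) w ∈ Finset.univ \ Fi := by
        refine Finset.mem_sdiff.2 ⟨Finset.mem_univ _, fun hh => ?_⟩
        obtain ⟨i, -, hi⟩ := Finset.mem_image.1 hh
        obtain ⟨k, hk⟩ := Quotient.exact hi.symm
        exact hw i (hk.symm.trans (hKe k i))
      rw [← hex4 _ hq, ← (orbit_eq_iff.2 (Quotient.exact (Quotient.out_eq (Quotient.mk (orbitRel K Ω) w))) :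
        orbit K (Quotient.mk (orbitRel K Ω) w).out = orbit K w)]
    -- a nontrivial element fixing a further point fixes one point of each long orbit
    have hlong : ∀ d : K, d ≠ 1 → ∀ w : Ω, (∀ i, w ≠ e i) → d • w = w →
        ∀ w' : Ω, (∀ i, w' ≠ e i) → d • w' = w' → w' ∈ orbit K w → w' = w := by
      intro d hd1 w hw hdw
      have hoddd : orderOf d % 2 = 1 := by
        have h1 : orderOf d ∣ Nat.card (stabilizer K w) := by
          have := orderOf_dvd_natCard (G := stabilizer K w) ⟨d, hdw⟩
          rwa [← Subgroup.orderOf_coe] at this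
        have h2 := hoddstab w hw
        rcases Nat.mod_two_eq_zero_or_one (orderOf d) with e0 | e0
        · obtain ⟨l, hl⟩ := (Nat.dvd_of_mod_eq_zero e0).trans h1
          omega
        · exact e0
      letI : Fintype (fixedBy Ω (d : G)) := Fintype.ofFinite _
      have hfx : Nat.card (fixedBy Ω (d : G)) ≤ 7 := by
        have := h.fx_le_half D (g := (d : G)) (mem_regEl.2
          ⟨fun hd => h.singular_smul_ne hd (e 0) (hKe d 0), fun e1 => hd1 (Subtype.ext e1)⟩)
        simp only [fx] at this
        omega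
      have hsame : ∀ q ∈ Finset.univ \ Fi, ∃ v : Ω, (Quotient.mk (orbitRel K Ω) v = q) ∧ d • v = v := by
        intro q hq
        letI : Fintype (orbit K q.out) := Fintype.ofFinite _
        by_contra hno
        push Not at hno
        have hc4 : Nat.card (orbit K q.out) = 4 := hex4 q hq
        let σ : Equiv.Perm (orbit K q.out) := MulAction.toPerm d
        have hmv : ∀ v : orbit K q.out, σ v ≠ v := fun v hv => by
          exact hno v.1 ((Quotient.sound v.2).trans (Quotient.out_eq q)) (congrArg Subtype.val hv)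
        have hsupp : σ.support = Finset.univ := Finset.eq_univ_of_forall fun v =>
          Equiv.Perm.mem_support.2 (hmv v)
        have hord : orderOf σ ∣ orderOf d :=
          orderOf_map_dvd (MulAction.toPermHom K (orbit K q.out)) d
        have h24 : orderOf σ ∣ 24 := by
          have := orderOf_dvd_natCard σ
          rwa [Nat.card_eq_fintype_card, Fintype.card_perm, ← Nat.card_eq_fintype_card, hc4] at this
        have h3 : orderOf σ ∣ 3 := by
          refine Nat.Coprime.dvd_of_dvd_mul_right (n := 8) ?_ (show orderOf σ ∣ 3 * 8 from h24)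
          refine Nat.Coprime.coprime_dvd_left hord ?_
          rw [show (8 : ℕ) = 2 ^ 3 from rfl]
          exact ((Nat.prime_two.coprime_iff_not_dvd.2 (by omega)).symm).pow_right 3
        haveI : Fact (Nat.Prime 3) := ⟨Nat.prime_three⟩
        rcases (Nat.dvd_prime Nat.prime_three).1 h3 with e1 | e3
        · exact hmv ⟨q.out, mem_orbit_self _⟩ (by rw [orderOf_eq_one_iff.1 e1]; rfl)
        · obtain ⟨m', hm'⟩ := Equiv.Perm.cycleType_prime_order (σ := σ) (by rw [e3]; exact Nat.prime_three)
          have hs := Equiv.Perm.sum_cycleType σ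
          rw [hm', e3, Multiset.sum_replicate, hsupp, Finset.card_univ, ← Nat.card_eq_fintype_card, hc4,
            smul_eq_mul] at hs
          omega
      choose v hv hdv using hsame
      intro w' hw' hdw' horb
      by_contra hne
      -- seven fixed points are not enough
      have hqw : ∀ u : Ω, (∀ i, u ≠ e i) → Quotient.mk (orbitRel K Ω) u ∈ Finset.univ \ Fi := by
        intro u hu
        refine Finset.mem_sdiff.2 ⟨Finset.mem_univ _, fun hh => ?_⟩
        obtain ⟨i, -, hi⟩ := Finset.mem_image.1 hh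
        obtain ⟨k, hk⟩ := Quotient.exact hi.symm
        exact hu i (hk.symm.trans (hKe k i))
      have hnotFi : ∀ q ∈ Finset.univ \ Fi, ∀ i, Quotient.mk (orbitRel K Ω) (e i) ≠ q := fun q hq i he =>
        (Finset.mem_sdiff.1 hq).2 (Finset.mem_image.2 ⟨i, Finset.mem_univ _, he⟩)
      set q₀ := Quotient.mk (orbitRel K Ω) w with hq₀
      have hw'q : Quotient.mk (orbitRel K Ω) w' = q₀ := Quotient.sound horb
      let S : Finset Ω := Finset.univ.map e ∪ ({w, w'} ∪
        ((Finset.univ \ Fi).erase q₀).attach.image fun q => v q.1 (Finset.mem_of_mem_erase q.2))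
      have hScard : 3 + (2 + 2) ≤ S.card := by
        have hA : (Finset.univ.map e).card = 3 := by simp
        have hBc : ({w, w'} : Finset Ω).card = 2 := Finset.card_pair (Ne.symm hne)
        have hCc : (((Finset.univ \ Fi).erase q₀).attach.image
            fun q => v q.1 (Finset.mem_of_mem_erase q.2)).card = 2 := by
          rw [Finset.card_image_of_injective, Finset.card_attach,
            Finset.card_erase_of_mem (hqw w hw), hM6]
          intro q1 q2 h12
          exact Subtype.ext ((hv _ _).symm.trans ((congrArg _ h12).trans (hv _ _)))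
        rw [Finset.card_union_of_disjoint, Finset.card_union_of_disjoint, hA, hBc, hCc]
        · refine Finset.disjoint_left.2 fun u h1 h2 => ?_
          obtain ⟨q, -, rfl⟩ := Finset.mem_image.1 h2
          rcases Finset.mem_insert.1 h1 with e1 | e1
          · exact Finset.ne_of_mem_erase q.2 ((hv _ _).symm.trans (congrArg _ e1))
          · exact Finset.ne_of_mem_erase q.2
              ((hv _ _).symm.trans ((congrArg _ (Finset.mem_singleton.1 e1)).trans hw'q))
        · refine Finset.disjoint_left.2 fun u h1 h2 => ?_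
          obtain ⟨i, -, rfl⟩ := Finset.mem_map.1 h1
          rcases Finset.mem_union.1 h2 with h2 | h2
          · rcases Finset.mem_insert.1 h2 with e1 | e1
            · exact hw i e1.symm
            · exact hw' i (Finset.mem_singleton.1 e1).symm
          · obtain ⟨q, -, hq⟩ := Finset.mem_image.1 h2
            exact hnotFi q.1 (Finset.mem_of_mem_erase q.2) i ((congrArg _ hq.symm).trans (hv _ _))
      have hsub : S ⊆ Finset.univ.filter fun u : Ω => (d : G) • u = u := by
        intro u hu
        refine Finset.mem_filter.2 ⟨Finset.mem_univ _, ?_⟩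
        rcases Finset.mem_union.1 hu with h1 | h1
        · obtain ⟨i, -, rfl⟩ := Finset.mem_map.1 h1
          exact hKe d i
        rcases Finset.mem_union.1 h1 with h1 | h1
        · rcases Finset.mem_insert.1 h1 with e1 | e1
          · rw [e1]; exact hdw
          · rw [Finset.mem_singleton.1 e1]; exact hdw'
        · obtain ⟨q, -, rfl⟩ := Finset.mem_image.1 h1
          exact hdv _ _
      have h8 := Finset.card_le_card hsub
      have hfix6 : (Finset.univ.filter fun u : Ω => (d : G) • u = u).card =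
          Nat.card (fixedBy Ω (d : G)) := by
        rw [← Fintype.card_subtype, ← Nat.card_eq_fintype_card]; rfl
      -- the permutation `d` moves a multiple of three points
      have hd3 : d ^ 3 = 1 := by
        refine Subtype.ext (eq_of_smul_eq_smul fun u : Ω => ?_)
        rw [OneMemClass.coe_one, one_smul]
        by_cases hu : ∀ i, u ≠ e i
        · letI : Fintype (orbit K u) := Fintype.ofFinite _
          let σ : Equiv.Perm (orbit K u) := MulAction.toPerm d
          have hord : orderOf σ ∣ orderOf d := orderOf_map_dvd (MulAction.toPermHom K (orbit K u)) d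
          have h24 : orderOf σ ∣ 24 := by
            have := orderOf_dvd_natCard σ
            rwa [Nat.card_eq_fintype_card, Fintype.card_perm, ← Nat.card_eq_fintype_card,
              horb4 u hu] at this
          have h3 : orderOf σ ∣ 3 := by
            refine Nat.Coprime.dvd_of_dvd_mul_right (n := 8) ?_ (show orderOf σ ∣ 3 * 8 from h24)
            refine Nat.Coprime.coprime_dvd_left hord ?_
            rw [show (8 : ℕ) = 2 ^ 3 from rfl]
            exact ((Nat.prime_two.coprime_iff_not_dvd.2 (by omega)).symm).pow_right 3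
          have h1 := congrArg (fun π : Equiv.Perm (orbit K u) => (π ⟨u, mem_orbit_self u⟩ : Ω))
            (orderOf_dvd_iff_pow_eq_one.1 h3)
          rw [show σ ^ 3 = MulAction.toPermHom K (orbit K u) (d ^ 3) by rw [map_pow]; rfl] at h1
          exact h1
        · push Not at hu
          obtain ⟨i, rfl⟩ := hu
          exact hKe (d ^ 3) i
      haveI : Fact (Nat.Prime 3) := ⟨Nat.prime_three⟩
      have hdG3 : (d : G) ^ 3 = 1 := by rw [← Subgroup.coe_pow, hd3, OneMemClass.coe_one]
      have hPg : IsPGroup 3 (Subgroup.zpowers (d : G)) := IsPGroup.of_card (n := 1) (by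
        rw [Nat.card_zpowers, pow_one]
        exact orderOf_eq_prime hdG3 fun e1 => hd1 (Subtype.ext e1))
      have hmod := hPg.card_modEq_card_fixedPoints (α := Ω)
      have he : fixedPoints (Subgroup.zpowers (d : G)) Ω = fixedBy Ω (d : G) := by
        ext u
        constructor
        · intro hu; exact hu ⟨_, Subgroup.mem_zpowers _⟩
        · rintro hu ⟨k, hk⟩
          obtain ⟨l, rfl⟩ := Subgroup.mem_zpowers_iff.1 hk
          exact Subgroup.zpow_mem (stabilizer G u) (show (d : G) ∈ stabilizer G u from hu) l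
      rw [he, Nat.card_eq_fintype_card (α := Ω), h.card_pts] at hmod
      have hmod' : (3 * 5) % 3 = Nat.card (fixedBy Ω (d : G)) % 3 := hmod
      omega
    -- hence the stabilizer of a further point has order at most three
    obtain ⟨w, hw⟩ : ∃ w : Ω, ∀ i, w ≠ e i := by
      by_contra hno
      push Not at hno
      have := Fintype.card_le_of_surjective e fun w => (hno w).imp fun i hi => hi.symm
      rw [h.card_pts, Fintype.card_fin] at this
      omega
    letI : Fintype (orbit K w) := Fintype.ofFinite _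
    obtain ⟨w₁, hw₁⟩ : ∃ w₁ : orbit K w, w₁ ≠ ⟨w, mem_orbit_self w⟩ := by
      haveI : Nontrivial (orbit K w) := Finite.one_lt_card_iff_nontrivial.1 (by rw [horb4 w hw]; omega)
      exact exists_ne _
    have horbne : ∀ u : orbit K w, ∀ i, u.1 ≠ e i := by
      rintro ⟨u, k, rfl⟩ i hu
      refine hw i ?_
      have := congrArg (fun t => (k⁻¹ : K) • t) hu
      simpa [hKe] using this
    let ψ : stabilizer K w → {u : orbit K w // u ≠ ⟨w, mem_orbit_self w⟩} := fun k =>
      ⟨(k : K) • w₁, fun hh => hw₁ (smul_left_cancel (k : K) (hh.trans (Subtype.ext k.2.symm)))⟩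
    have hψ : Function.Injective ψ := by
      intro k k' hkk
      by_contra hne
      have h1 := congrArg (fun u : {u : orbit K w // u ≠ ⟨w, mem_orbit_self w⟩} => u.1.1) hkk
      refine hw₁ (Subtype.ext (hlong ((k'⁻¹ * k : stabilizer K w) : K)
        (fun e1 => hne (inv_mul_eq_one.1 (Subtype.ext e1)).symm) w hw (k'⁻¹ * k).2 w₁.1 (horbne w₁)
        ?_ w₁.2))
      simp only [ψ, orbit.coe_smul] at h1
      rw [Subgroup.coe_mul, Subgroup.coe_inv, mul_smul, h1, inv_smul_smul]
    have hs3 : Nat.card (stabilizer K w) ≤ 3 := by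
      have h1 := Nat.card_le_card_of_injective ψ hψ
      have h2 : Nat.card {u : orbit K w // u ≠ ⟨w, mem_orbit_self w⟩} = 3 := by
        rw [Nat.card_eq_fintype_card, Fintype.card_subtype_compl, Fintype.card_subtype_eq,
          ← Nat.card_eq_fintype_card, horb4 w hw]
      omega
    have hz12 : z ≤ 12 := by
      rw [← hLs w, horb4 w hw]; omega
    -- count the involutions
    have hj6 : 6 ∣ j := Nat.Coprime.mul_dvd_of_dvd_of_dvd (show Nat.Coprime 2 3 by norm_num) hj2 ⟨i, hi⟩
    have hj6' : j = 6 := by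
      obtain ⟨l, rfl⟩ := hj6
      have : l = 1 := by
        rcases l with _ | _ | l
        · omega
        · rfl
        · exfalso
          clear * - hjz hz12
          have e1 : (6 * (l + 1 + 1)) ^ 2 = 36 * (l * l) + 144 * l + 144 := by ring
          omega
      omega
    subst hj6'
    obtain rfl : z = 12 := by omega
    have hC72 : C = 72 := by
      rcases hdcases with e1 | e1
      · exfalso
        simp only [hπdef, hn3] at hd
        omega
      · rw [hj, e1]
    have hIdx : (Subgroup.centralizer ({n} : Set G)).index = 455 := by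
      have h1 := (Subgroup.centralizer ({n} : Set G)).card_mul_index
      rw [← hC, hC72] at h1
      have h2 : (Nat.card G : ℤ) = 32760 := by rw [← hGc, hGq, hfe]; norm_num
      omega
    -- double count
    have hcount : ∑ s ∈ Finset.univ.filter (fun s : G => orderOf s = 2),
        Nat.card (fixedBy (Fin 3 ↪ Ω) s) =
        ∑ t : Fin 3 ↪ Ω, (Finset.univ.filter fun s : G => orderOf s = 2 ∧ s • t = t).card := by
      have e1 : ∀ s : G, Nat.card (fixedBy (Fin 3 ↪ Ω) s) =
          ∑ t : Fin 3 ↪ Ω, if s • t = t then 1 else 0 := fun s => by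
        rw [Finset.sum_boole, Nat.cast_id, Nat.card_eq_fintype_card, ← Fintype.card_subtype]; rfl
      rw [Finset.sum_congr rfl fun s _ => e1 s, Finset.sum_comm]
      refine Finset.sum_congr rfl fun t _ => ?_
      rw [Finset.sum_boole, Nat.cast_id, Finset.filter_filter]
    have hinvK : ∀ t : Fin 3 ↪ Ω, (Finset.univ.filter fun s : G => orderOf s = 2 ∧ s • t = t).card =
        (Finset.univ.filter fun s : G => orderOf s = 2 ∧ s • e = e).card := by
      intro t
      obtain ⟨g, rfl⟩ := MulAction.exists_smul_eq G e t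
      refine (Finset.card_equiv (MulAut.conj g).toEquiv fun s => ?_).symm
      simp only [Finset.mem_filter, Finset.mem_univ, true_and, MulEquiv.toEquiv_eq_coe,
        MulEquiv.coe_toEquiv]
      rw [show orderOf (MulAut.conj g s) = orderOf s from
        orderOf_injective (MulAut.conj g).toMonoidHom (MulAut.conj g).injective s, MulAut.conj_apply,
        mul_smul, mul_smul, inv_smul_smul, smul_left_cancel_iff]
    have hsix : ∀ s : G, orderOf s = 2 → Nat.card (fixedBy (Fin 3 ↪ Ω) s) = 6 := by
      intro s hs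
      have h1 : Nat.card (fixedBy Ω s) = 3 := by
        rw [card_fixedBy_of_isConj (X := Ω) (h.isConj_involution D hn hnC hs)]
        simp only [fx] at hn3; omega
      letI : Fintype (fixedBy Ω s) := Fintype.ofFinite _
      have e1 : Nat.card (fixedBy (Fin 3 ↪ Ω) s) = Nat.card (Fin 3 ↪ fixedBy Ω s) :=
        (Nat.card_congr
          { toFun := fun (ε : Fin 3 ↪ fixedBy Ω s) => (⟨ε.trans (Function.Embedding.subtype _),
              Function.Embedding.ext fun i => (ε i).2⟩ : fixedBy (Fin 3 ↪ Ω) s)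
            invFun := fun ε => ⟨fun i => ⟨ε.1 i, congrArg (fun x : Fin 3 ↪ Ω => x i) ε.2⟩,
              fun i j hij => ε.1.injective (congrArg Subtype.val hij)⟩
            left_inv := fun ε => Function.Embedding.ext fun i => rfl
            right_inv := fun ε => Subtype.ext (Function.Embedding.ext fun i => rfl) }).symm
      rw [e1, Nat.card_eq_fintype_card, Fintype.card_embedding_eq, ← Nat.card_eq_fintype_card, h1,
        Fintype.card_fin]
      rfl
    rw [Finset.sum_congr rfl fun t _ => hinvK t, Finset.sum_congr rfl fun s hs =>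
      hsix s (Finset.mem_filter.1 hs).2, Finset.sum_const, Finset.sum_const, Finset.card_univ,
      Fintype.card_embedding_eq, h.card_pts, Fintype.card_fin, smul_eq_mul, smul_eq_mul] at hcount
    have hI : (Finset.univ.filter fun s : G => orderOf s = 2).card = 455 := by
      rw [← hIdx, index_centralizer, Nat.card_eq_fintype_card, Fintype.card_subtype]
      congr 1
      ext s
      simp only [Finset.mem_filter, Finset.mem_univ, true_and]
      refine ⟨fun hs => h.isConj_involution D hn hnC hs, fun hs => ?_⟩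
      obtain ⟨c, rfl⟩ := isConj_iff.1 hs
      rw [← h.orderOf_eq_two hn hnC]
      exact orderOf_injective (MulAut.conj c).toMonoidHom (MulAut.conj c).injective n
    rw [hI, show Nat.descFactorial (3 * 5) 3 = 2730 from rfl] at hcount
    obtain ⟨s₁, hs₁⟩ : ∃ s₁, (Finset.univ.filter fun s : G => orderOf s = 2 ∧ s • e = e) = {s₁} :=
      Finset.card_eq_one.1 (by omega)
    have huniq : ∀ s : G, orderOf s = 2 → s ∈ K → s = s₀ := fun s h1 h2 => by
      have e1 : s ∈ ({s₁} : Finset G) := hs₁ ▸ Finset.mem_filter.2 ⟨Finset.mem_univ _, h1, h2⟩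
      have e2 : s₀ ∈ ({s₁} : Finset G) := hs₁ ▸ Finset.mem_filter.2 ⟨Finset.mem_univ _, hs₀2, hs₀⟩
      rw [Finset.mem_singleton.1 e1, Finset.mem_singleton.1 e2]
    obtain ⟨d₁, hd₁⟩ : ∃ d₁ : stabilizer K w, d₁ ≠ 1 := by
      haveI : Nontrivial (stabilizer K w) := Finite.one_lt_card_iff_nontrivial.1 (by
        have := hLs w; rw [horb4 w hw] at this; omega)
      exact exists_ne _
    let σ₀ : K := ⟨s₀, hs₀⟩
    have hcomm : (d₁ : K) * σ₀ = σ₀ * d₁ := by
      refine Subtype.ext ?_
      have h1 := huniq ((d₁ : K) * σ₀ * (d₁ : K)⁻¹ : K) (by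
        rw [Subgroup.orderOf_coe,
          show orderOf ((d₁ : K) * σ₀ * (d₁ : K)⁻¹) = orderOf σ₀ from
            orderOf_injective (MulAut.conj (d₁ : K)).toMonoidHom (MulAut.conj (d₁ : K)).injective σ₀,
          ← Subgroup.orderOf_coe]
        exact hs₀2) (SetLike.coe_mem _)
      simp only [Subgroup.coe_mul, Subgroup.coe_inv, σ₀, mul_inv_eq_iff_eq_mul] at h1 ⊢
      exact h1
    have hσw : σ₀ • w ≠ w := fun hh => by
      obtain ⟨i, hi⟩ := hKinv' σ₀ (by rw [← Subgroup.orderOf_coe]; exact hs₀2) w hh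
      exact hw i hi
    refine hσw (hlong (d₁ : K) (fun e1 => hd₁ (Subtype.ext e1)) w hw d₁.2 (σ₀ • w)
      (horbne ⟨σ₀ • w, mem_orbit w σ₀⟩) ?_ (mem_orbit w σ₀))
    rw [← mul_smul, hcomm, mul_smul, show (d₁ : K) • w = w from d₁.2]

end Cfsg.Agent.H85.ThreeP
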