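import Cfsg.Agent.H85.ThreeP.Setup
import Cfsg.Agent.S4706
import Cfsg.Agent.Linear.Order

/-!
# The imprimitive groups of degree `3 p`
-/

set_option linter.unusedSectionVars false
set_option linter.style.haveILetI false

namespace Cfsg.Agent.H85.ThreeP

open MulAction

universe u v

variable {G : Type u} [Group G] [Finite G] {Ω : Type v} [Fintype Ω] [MulAction G Ω]
  {p : ℕ} [hp : Fact p.Prime] {P : Sylow p G} (h : Hyp Ω P)

include h

open scoped Pointwise in
/-- An imprimitive group has a transitive faithful representation on `p` points. -/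
theorem Hyp.exists_rep (hnp : ¬ IsPreprimitive G Ω) :
    ∃ φ : G →* Equiv.Perm (Fin p), Function.Injective φ := by
  classical
  haveI := h.trans
  have h5 := h.five_le
  obtain ⟨B, hB, hBt⟩ : ∃ B : Set Ω, IsBlock G B ∧ ¬ IsTrivialBlock B := by
    by_contra hno
    push Not at hno
    exact hnp { isTrivialBlock_of_isBlock := fun {B} hB => hno B hB }
  simp only [IsTrivialBlock, not_or, Set.not_subsingleton_iff] at hBt
  have hBne : B.Nonempty := hBt.1.nonempty
  have hkey := hB.ncard_block_mul_ncard_orbit_eq hBne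
  rw [Nat.card_eq_fintype_card, h.card_pts] at hkey
  set k := Set.ncard (orbit G B) with hk
  have hB1 : 1 < B.ncard := (Set.one_lt_ncard (Set.toFinite _)).2
    (let ⟨a, ha, b, hb, hab⟩ := hBt.1; ⟨a, ha, b, hb, hab⟩)
  have hk1 : k ≠ 1 := fun e => hBt.2 (Set.eq_of_subset_of_ncard_le (Set.subset_univ _)
    (by rw [Set.ncard_univ, Nat.card_eq_fintype_card, h.card_pts]; rw [e, mul_one] at hkey; omega))
  have hkdvd : k ∣ 3 * p := Dvd.intro_left _ hkey
  haveI : Finite (orbit G B) := Subtype.finite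
  obtain ⟨c⟩ : Nonempty (orbit G B ≃ Fin k) := ⟨(Finite.equivFin _).trans (finCongr (Nat.card_coe_set_eq _))⟩
  let φ : G →* Equiv.Perm (Fin k) := c.permCongrHom.toMonoidHom.comp (MulAction.toPermHom G (orbit G B))
  have hφ : Function.Injective φ := by
    rw [← MonoidHom.ker_eq_bot_iff]
    refine (h.eq_bot_or_top φ.ker).resolve_right fun e => hk1 ?_
    rw [hk, Set.ncard_eq_one]
    refine ⟨B, Set.eq_singleton_iff_unique_mem.2 ⟨mem_orbit_self B, ?_⟩⟩
    rintro _ ⟨g, rfl⟩
    have hg : φ g = 1 := MonoidHom.mem_ker.1 (e ▸ Subgroup.mem_top g)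
    have h1 : MulAction.toPermHom G (orbit G B) g = 1 := by
      apply c.permCongrHom.injective
      rw [map_one]; exact hg
    exact congrArg Subtype.val (Equiv.Perm.ext_iff.1 h1 ⟨B, mem_orbit_self B⟩)
  obtain ⟨d, e, hd, he, hde⟩ := (Nat.dvd_mul).1 hkdvd
  rcases (Nat.dvd_prime Nat.prime_three).1 hd with e1 | e1 <;>
    rcases (Nat.dvd_prime hp.out).1 he with e2 | e2 <;> rw [e1, e2] at hde
  · exact absurd (by omega) hk1
  · obtain rfl : k = p := by omega
    exact ⟨φ, hφ⟩
  · exfalso
    have h1 := Nat.card_le_card_of_injective φ hφ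
    have h2 := Nat.le_of_dvd Nat.card_pos h.three_p_dvd
    rw [Nat.card_eq_fintype_card (α := Equiv.Perm (Fin k)), Fintype.card_perm, Fintype.card_fin,
      show k = 3 by omega] at h1
    have : Nat.factorial 3 = 6 := rfl
    omega
  · exfalso
    rw [← hde] at hkey
    have : 3 * p < B.ncard * (3 * p) := lt_mul_of_one_lt_left (by omega) hB1
    omega

/-- The imprimitive groups are `SL(2, 2 ^ m)`. -/
theorem Hyp.imprimitive (hnp : ¬ IsPreprimitive G Ω) :
    ∃ (F : Type) (_ : Field F) (_ : Fintype F) (m : ℕ), Fintype.card F = 2 ^ m ∧ p = 2 ^ m + 1 ∧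
      Nonempty (G ≃* Matrix.ProjectiveSpecialLinearGroup (Fin 2) F) := by
  classical
  obtain ⟨φ, hφ⟩ := h.exists_rep hnp
  let e : G ≃* φ.range := MonoidHom.ofInjective hφ
  obtain ⟨σ, hσi, hσs⟩ : ∃ σ : φ.range →* G, Function.Injective σ ∧ Function.Surjective σ :=
    ⟨e.symm.toMonoidHom, e.symm.injective, e.symm.surjective⟩
  let Q : Sylow p φ.range := P.comapOfInjective σ hσi (by simp [MonoidHom.range_eq_top.2 hσs])
  have hQ : (Q : Subgroup φ.range) = (P : Subgroup G).comap σ := rfl
  have hN : Nat.card (Subgroup.normalizer ((Q : Subgroup φ.range) : Set φ.range)) = 2 * p := by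
    rw [hQ, ← Subgroup.comap_normalizer_eq_of_surjective _ hσs, ← h.card_norm]
    exact Nat.card_congr ((Equiv.ofBijective σ ⟨hσi, hσs⟩).subtypeEquiv fun z => Iff.rfl)
  rcases S4706.result (by have := h.three_lt; omega) (Fintype.card_fin p) φ.range Q hN with
    hn | ⟨a, F, iF, iFt, hpa, hF, ⟨f⟩⟩
  · exfalso
    refine h.not_normal ?_
    rw [← Subgroup.map_comap_eq_self_of_surjective hσs (P : Subgroup G), ← hQ]
    exact hn.map σ hσs
  · refine ⟨F, iF, iFt, a, hF, hpa, ?_⟩
    have hc : Subgroup.center (Matrix.SpecialLinearGroup (Fin 2) F) = ⊥ := by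
      refine Subgroup.eq_bot_of_card_eq _ ?_
      rw [Linear.card_center_SL, Fintype.card_fin, hF]
      refine (Nat.prime_two.coprime_iff_not_dvd.2 ?_)
      have := h.three_lt
      rcases a with _ | a
      · omega
      · rw [pow_succ]
        have : 0 < 2 ^ a := by positivity
        omega
    exact ⟨(e.trans f).trans (QuotientGroup.quotientBot.symm.trans
      (QuotientGroup.quotientMulEquivOfEq hc.symm))⟩

end Cfsg.Agent.H85.ThreeP
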