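import Cfsg.Agent.H85.ThreeP.PairClasses

/-!
# Simple transitive groups of degree `3 p`: involutions
-/

set_option linter.unusedSectionVars false
set_option linter.style.haveILetI false
set_option maxHeartbeats 1000000

open scoped ComplexConjugate

namespace Cfsg.Agent.H85.ThreeP

open MulAction CharBasic BlockBasic CycOne

universe u v

theorem index_centralizer {G : Type*} [Group G] (g : G) :
    (Subgroup.centralizer ({g} : Set G)).index = Nat.card {h : G // IsConj g h} := by
  have h1 : (Subgroup.centralizer ({g} : Set G)).index = (MulAction.stabilizer (ConjAct G) g).index :=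
    (congrArg Subgroup.index (Subgroup.centralizer_eq_comap_stabilizer g)).trans
      (Subgroup.index_comap_of_surjective (H := MulAction.stabilizer (ConjAct G) g)
        (f := (ConjAct.toConjAct (G := G)).toMonoidHom) ConjAct.toConjAct.surjective)
  rw [h1, MulAction.index_stabilizer, ← Nat.card_coe_set_eq]
  refine Nat.card_congr (Equiv.subtypeEquivRight fun h => ?_)
  rw [ConjAct.mem_orbit_conjAct]
  exact isConj_comm

variable {G : Type u} [Group G] [Finite G] [Fintype G] {Ω : Type v} [Fintype Ω] [MulAction G Ω]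
  {p : ℕ} [hp : Fact p.Prime] {P : Sylow p G} (h : Hyp Ω P)
  {θ : IrrCharacter G} {Y : Finset (IrrCharacter G)} {a : ℤ}

include h

theorem Hyp.sq_eq_one {y : G} (hy : y ∈ (P : Subgroup G)) (hy2 : y * y = 1) : y = 1 := by
  by_contra hy1
  have h1 := orderOf_dvd_of_pow_eq_one (show y ^ 2 = 1 by rw [pow_two, hy2])
  rw [h.orderOf_eq hy hy1] at h1
  have := Nat.le_of_dvd two_pos h1
  have := h.three_lt
  omega

theorem Hyp.mul_self_eq_one {n : G} (hn : n ∈ nor P) (hnC : n ∉ cen P) : n * n = 1 := by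
  have hsq : n * n ∈ (P : Subgroup G) := by
    rw [← h.cen_eq]
    exact Subgroup.mul_self_mem_of_index_two h.th.index_two (⟨n, hn⟩ : nor P)
  refine h.sq_eq_one hsq ?_
  have h1 := h.th.eq_inv_of_not_mem hn hnC hsq
  rw [show n * (n * n) * n⁻¹ = n * n by group] at h1
  nth_rw 1 [h1]
  group

theorem Hyp.orderOf_eq_two {n : G} (hn : n ∈ nor P) (hnC : n ∉ cen P) : orderOf n = 2 :=
  orderOf_eq_prime (by rw [pow_two, h.mul_self_eq_one hn hnC]) fun e => hnC (e ▸ one_mem _)

theorem Hyp.isConj_of_not_mem {n x : G} (hn : n ∈ nor P) (hnC : n ∉ cen P) (hx : x ∈ nor P)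
    (hxC : x ∉ cen P) : IsConj n x := by
  have hmem : n⁻¹ * x ∈ (P : Subgroup G) := by
    rw [← h.cen_eq]
    have := (Subgroup.mul_mem_iff_of_index_two h.th.index_two (a := (⟨n, hn⟩ : nor P)⁻¹)
      (b := ⟨x, hx⟩)).2 (by
        constructor
        · intro hh; exact absurd ((Subgroup.inv_mem_iff _).1 hh) hnC
        · intro hh; exact absurd hh hxC)
    exact this
  obtain ⟨v, hv⟩ := ((Nat.Coprime.pow_left_bijective (n := 2) (G := (P : Subgroup G))
    (by rw [show Nat.card (P : Subgroup G) = p from h.card_sylow,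
          Nat.coprime_primes hp.out Nat.prime_two]
        have := h.three_lt; omega)).surjective ⟨_, hmem⟩)
  have hv' : n⁻¹ * x = (v : G) * v := by
    rw [show n⁻¹ * x = ((⟨_, hmem⟩ : (P : Subgroup G)) : G) from rfl, ← hv]; simp [pow_two]
  have hnv := h.th.eq_inv_of_not_mem hn hnC v.2
  rw [mul_inv_eq_iff_eq_mul] at hnv
  refine isConj_iff.2 ⟨((v : G))⁻¹, ?_⟩
  have hxe : x = n * ((v : G) * v) := by rw [← hv']; group
  calc ((v : G))⁻¹ * n * ((v : G))⁻¹⁻¹ = ((v : G)⁻¹ * n) * v := by group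
    _ = x := by rw [← hnv, hxe]; group

theorem Hyp.mem_of_inverts {x y : G} (hy : y ∈ (P : Subgroup G)) (hy1 : y ≠ 1) (hxx : x * x = 1)
    (hxy : x⁻¹ * y * (x⁻¹ * y) = 1) : x ∈ nor P ∧ x ∉ cen P := by
  have hxi : x⁻¹ = x := inv_eq_of_mul_eq_one_right hxx
  have hinv : x * y * x⁻¹ = y⁻¹ := by
    rw [hxi]
    refine eq_inv_of_mul_eq_one_left ?_
    rw [← hxy, hxi]
    group
  constructor
  · refine Subgroup.mem_normalizer_iff.2 fun w => ?_
    have hmap : (P : Subgroup G).map (MulAut.conj x).toMonoidHom = (P : Subgroup G) := by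
      have hz := zpowers_eq P h.card_sylow hy hy1
      conv_lhs => rw [← hz]
      rw [MonoidHom.map_zpowers, MulEquiv.coe_toMonoidHom, MulAut.conj_apply, hinv,
        Subgroup.zpowers_inv, hz]
    conv_rhs => rw [← hmap]
    exact ⟨fun hw => ⟨w, hw, rfl⟩, fun ⟨w', hw', e⟩ => by rwa [← (MulAut.conj x).injective e]⟩
  · intro hxC
    have h1 := Subgroup.mem_centralizer_iff.1 hxC y hy
    rw [← h1, mul_inv_cancel_right] at hinv
    exact hy1 (h.sq_eq_one hy (mul_eq_one_iff_eq_inv.2 hinv))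

theorem Hyp.mul_self_of_isConj {n x : G} (hn : n * n = 1) (hx : IsConj n x) : x * x = 1 := by
  obtain ⟨d, rfl⟩ := isConj_iff.1 hx
  calc d * n * d⁻¹ * (d * n * d⁻¹) = d * (n * n) * d⁻¹ := by group
    _ = 1 := by rw [hn]; group

theorem Hyp.regEl_of_involution {s : G} (hs : orderOf s = 2) : s ∈ regEl G p := by
  refine mem_regEl.2 ⟨fun hd => ?_, fun e => by rw [e, orderOf_one] at hs; omega⟩
  rw [hs] at hd
  have := Nat.le_of_dvd two_pos hd
  have := h.three_lt
  omega

/-- All involutions are conjugate. -/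
theorem Hyp.isConj_involution (D : Data P θ Y a) {n s : G} (hn : n ∈ nor P) (hnC : n ∉ cen P)
    (hs : orderOf s = 2) : IsConj n s := by
  obtain ⟨y, hy, hy1⟩ := h.exists_ne_one
  obtain ⟨d, hd, hd'⟩ := h.exists_conj_mul D (h.regEl_of_involution hs) hy hy1
  have hss : s * s = 1 := by rw [← pow_two, ← hs, pow_orderOf_eq_one]
  obtain ⟨hdN, hdC⟩ := h.mem_of_inverts hy hy1 (h.mul_self_of_isConj hss hd)
    (h.mul_self_of_isConj hss hd')
  exact (h.isConj_of_not_mem hn hnC hdN hdC).trans hd.symm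

/-- An involution normalizing `P` fixes one or three points. -/
theorem Hyp.fx_involution {n : G} (hn : n ∈ nor P) (hnC : n ∉ cen P) :
    fx Ω n = 1 ∨ fx Ω n = 3 := by
  classical
  have hle : Nat.card (fixedBy Ω n) ≤ 3 := by
    let F' : ↥(P : Subgroup G) × fixedBy Ω n → Ω := fun z => (z.1 : G) • z.2.1
    have hinj : Function.Injective F' := by
      rintro ⟨y, i⟩ ⟨y', j⟩ hyy
      change (y : G) • i.1 = (y' : G) • j.1 at hyy
      set z : (P : Subgroup G) := y⁻¹ * y' with hz
      have hzx : (z : G) • j.1 = i.1 := by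
        rw [hz, Subgroup.coe_mul, Subgroup.coe_inv, mul_smul, ← hyy, inv_smul_smul]
      have hzi : (z : G)⁻¹ • j.1 = i.1 := by
        rw [← h.th.eq_inv_of_not_mem hn hnC z.2, mul_smul, mul_smul,
          show n⁻¹ • j.1 = j.1 from inv_smul_eq_iff.2 j.2.symm, hzx, show n • i.1 = i.1 from i.2]
      have hz2 : (z : G) * z = 1 := by
        by_contra hne
        refine h.smul_ne (mul_mem z.2 z.2) hne j.1 ?_
        rw [mul_smul, hzx, ← hzi, smul_inv_smul]
      have hz1 : z = 1 := Subtype.ext (h.sq_eq_one z.2 hz2)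
      rw [hz1, OneMemClass.coe_one, one_smul] at hzx
      rw [hz, inv_mul_eq_one] at hz1
      exact Prod.ext hz1 (Subtype.ext hzx.symm)
    have h1 := Nat.card_le_card_of_injective F' hinj
    rw [Nat.card_prod, h.card_sylow, Nat.card_eq_fintype_card (α := Ω), h.card_pts, mul_comm 3 p] at h1
    exact Nat.le_of_mul_le_mul_left h1 hp.out.pos
  have hodd : Nat.card (fixedBy Ω n) % 2 = 1 := by
    haveI : Fact (Nat.Prime 2) := ⟨Nat.prime_two⟩
    have hPg : IsPGroup 2 (Subgroup.zpowers n) := IsPGroup.of_card (n := 1)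
      (by rw [Nat.card_zpowers, h.orderOf_eq_two hn hnC, pow_one])
    have h1 := hPg.card_modEq_card_fixedPoints (α := Ω)
    have he : fixedPoints (Subgroup.zpowers n) Ω = fixedBy Ω n := by
      ext z
      constructor
      · intro hz; exact hz ⟨n, Subgroup.mem_zpowers n⟩
      · rintro hz ⟨k, hk⟩
        obtain ⟨i, rfl⟩ := Subgroup.mem_zpowers_iff.1 hk
        exact Subgroup.zpow_mem (stabilizer G z) (show n ∈ stabilizer G z from hz) i
    rw [he, Nat.card_eq_fintype_card (α := Ω), h.card_pts] at h1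
    have h2 : (3 * p) % 2 = Nat.card (fixedBy Ω n) % 2 := h1
    have := h.odd
    omega
  simp only [fx]
  omega

/-- The centralizer of an involution and the order of the group. -/
theorem Hyp.order_formula (D : Data P θ Y a) {k : G → ℤ} (hk : ∀ g, (θ : G → ℂ) g = (k g : ℂ))
    {n : G} (hn : n ∈ nor P) (hnC : n ∉ cen P) :
    (p : ℤ) * charDegree (θ : G → ℂ) * (a + charDegree (θ : G → ℂ)) *
        (Nat.card (Subgroup.centralizer ({n} : Set G)) : ℤ) ^ 2 =
      (Nat.card G : ℤ) * (charDegree (θ : G → ℂ) - k n) ^ 2 := by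
  classical
  obtain ⟨y, hy, hy1⟩ := h.exists_ne_one
  have hnn := h.mul_self_eq_one hn hnC
  have hreg : ¬ p ∣ orderOf n := (mem_regEl.1 (h.regEl_of_involution (h.orderOf_eq_two hn hnC))).1
  have hset : (Finset.univ.filter fun x : G => IsConj n x ∧ IsConj n (x⁻¹ * y)) =
      Finset.univ.filter fun x : G => x ∈ nor P ∧ x ∉ cen P := by
    ext x
    simp only [Finset.mem_filter, Finset.mem_univ, true_and]
    constructor
    · rintro ⟨h1, h2⟩
      exact h.mem_of_inverts hy hy1 (h.mul_self_of_isConj hnn h1) (h.mul_self_of_isConj hnn h2)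
    · rintro ⟨h1, h2⟩
      have hyN : y ∈ nor P := Subgroup.le_normalizer hy
      refine ⟨h.isConj_of_not_mem hn hnC h1 h2,
        h.isConj_of_not_mem hn hnC (mul_mem (inv_mem h1) hyN) fun hh => h2 ?_⟩
      have hyC : y ∈ cen P := by rw [h.cen_eq]; exact hy
      have := mul_mem hh (inv_mem hyC)
      rw [mul_inv_cancel_right] at this
      exact inv_mem_iff.1 this
  have hcard : (Finset.univ.filter fun x : G => x ∈ nor P ∧ x ∉ cen P).card = p := by
    have e : (Finset.univ.filter fun x : G => x ∈ nor P ∧ x ∉ cen P) =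
        (Finset.univ.filter fun x : G => x ∈ nor P) \ (Finset.univ.filter fun x : G => x ∈ cen P) := by
      ext x; simp
    rw [e, Finset.card_sdiff_of_subset fun x hx => by
      simp only [Finset.mem_filter, Finset.mem_univ, true_and] at hx ⊢
      exact cen_le_nor P hx]
    rw [← Fintype.card_subtype, ← Fintype.card_subtype, ← Nat.card_eq_fintype_card,
      ← Nat.card_eq_fintype_card, show Nat.card {x : G // x ∈ nor P} = 2 * p from h.card_norm,
      show Nat.card {x : G // x ∈ cen P} = p from (by rw [h.cen_eq]; exact h.card_sylow)]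
    omega
  have hcoef := H84.coeff_classSum_mul_eq n n y
  rw [H84.coeff_classSum_mul, hset, hcard] at hcoef
  set f := charDegree (θ : G → ℂ) with hf
  set C := Nat.card (Subgroup.centralizer ({n} : Set G)) with hC
  set m := ((Subgroup.centralizer ({n} : Set G)).index : ℂ) with hm
  have hmC : m * (C : ℂ) = (Nat.card G : ℂ) := by
    rw [hm, hC, ← Nat.cast_mul, Subgroup.index_mul_card]
  have hf2 : 2 ≤ f := h.two_le_degree θ D.θ_ne
  have hden : ((a : ℂ) + (f : ℂ)) ≠ 0 := by
    have : (0 : ℤ) < a + f := by rcases D.sign with e | e <;> omega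
    exact_mod_cast this.ne'
  have hfC : (f : ℂ) ≠ 0 := Nat.cast_ne_zero.2 (by omega)
  rw [h.sum_block D _ (fun χ h1 h2 h3 => by rw [D.van χ h1 h2 h3 y hy hy1, map_zero, mul_zero]),
    Finset.sum_congr rfl (g := fun u : IrrCharacter G =>
      m ^ 2 * ((a : ℂ) + (k n : ℂ)) ^ 2 / ((a : ℂ) + f) * conj ((u : G → ℂ) y)) fun u hu => by
      rw [Cfsg.centralChar, D.reg u hu n hreg, D.reg u hu 1 h.not_singular_one, hk n,
        apply_one_eq_charDegree θ, ← hf, ← hm]
      field_simp,
    ← Finset.mul_sum, ← map_sum, D.sum_Y y hy hy1, map_neg, map_intCast, D.θ_val y hy hy1,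
    map_intCast, Cfsg.centralChar, Cfsg.centralChar, hk n, apply_one_eq_charDegree θ, ← hf, ← hm]
    at hcoef
  simp only [trivialIrr, map_one, mul_one, div_one, one_mul] at hcoef
  have ha2 : (a : ℂ) ^ 2 = 1 := by rcases D.sign with e | e <;> rw [e] <;> norm_num
  rw [show m * m + ((f : ℂ) * (m * (k n : ℂ) / f * (m * (k n : ℂ) / f)) * (a : ℂ) +
      m ^ 2 * ((a : ℂ) + (k n : ℂ)) ^ 2 / ((a : ℂ) + f) * -(a : ℂ)) =
      m ^ 2 * ((f : ℂ) - (k n : ℂ)) ^ 2 / ((f : ℂ) * ((a : ℂ) + f)) by
    field_simp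
    linear_combination m ^ 2 * ((k n : ℂ) ^ 2 - (a : ℂ) * (f : ℂ) - 2 * (k n : ℂ) * (f : ℂ)) * ha2,
    ← div_eq_inv_mul] at hcoef
  have hG0 : (Nat.card G : ℂ) ≠ 0 := Nat.cast_ne_zero.2 Nat.card_pos.ne'
  field_simp at hcoef
  apply Int.cast_injective (α := ℂ)
  push_cast
  refine mul_left_cancel₀ hG0 ?_
  linear_combination (C : ℂ) ^ 2 * hcoef +
    ((f : ℂ) - k n) ^ 2 * (m * (C : ℂ) + (Nat.card G : ℂ)) * hmC

end Cfsg.Agent.H85.ThreeP
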