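import Cfsg.Agent.CharBasic.Complete
import Cfsg.Agent.BlockBasic.Idem
import Cfsg.Agent.BlockBasic.Basic
import Cfsg.Agent.BlockBasic.Center
import Cfsg.Agent.S0157

/-!
# Orbitals and irreducible characters
-/

set_option linter.unusedSectionVars false
set_option linter.style.haveILetI false

open scoped ComplexConjugate

namespace Cfsg.Agent.H85.ThreeP

open MulAction CharBasic BlockBasic

universe u v

variable {G : Type u} [Group G] [Fintype G] {Ω : Type v} [Fintype Ω] [MulAction G Ω]

theorem irr_convolution (χ : Cfsg.IrrCharacter G) (k : G) :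
    ∑ u : G, (χ : G → ℂ) u * (χ : G → ℂ) (u⁻¹ * k) =
      (Nat.card G : ℂ) / (χ : G → ℂ) 1 * (χ : G → ℂ) k := by
  classical
  obtain ⟨d, ρ, hρ, hχ⟩ := χ.2
  rw [show (χ : G → ℂ) = ρ.character from hχ.symm]
  let V := Fin d → ℂ
  let T : Module.End ℂ V := ∑ u : G, ρ.character u • ρ u⁻¹
  haveI := hρ
  obtain ⟨c, hc⟩ := CharBasic.schur_scalar ρ T (fun g => by
    simp only [T, Finset.sum_mul, Finset.mul_sum, smul_mul_assoc, mul_smul_comm, ← map_mul]
    refine Fintype.sum_equiv (MulAut.conj g⁻¹).toEquiv _ _ fun u => ?_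
    simp only [MulEquiv.toEquiv_eq_coe, MulEquiv.coe_toEquiv, MulAut.conj_apply]
    rw [Representation.char_conj]
    congr 2
    group)
  have hG0 : (Nat.card G : ℂ) ≠ 0 := Nat.cast_ne_zero.2 Nat.card_pos.ne'
  have h1 : (Nat.card G : ℂ) = c * ρ.character 1 := by
    have := congrArg (LinearMap.trace ℂ V) hc
    rw [map_smul, LinearMap.trace_id, smul_eq_mul] at this
    rw [Representation.char_one, ← this]
    have hn1 := CharBasic.classInner_irr_self (CharBasic.isIrrCharacter_character ρ)
    rw [CharBasic.classInner_def, inv_mul_eq_iff_eq_mul₀ hG0, mul_one] at hn1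
    rw [← hn1]
    simp only [T, map_sum, map_smul, smul_eq_mul, ← CharBasic.character_inv]
    rfl
  have hd : ρ.character 1 ≠ 0 := fun e => hG0 (by rw [h1, e, mul_zero])
  have hk : ∑ u : G, ρ.character u * ρ.character (u⁻¹ * k) = LinearMap.trace ℂ V (T * ρ k) := by
    simp only [T, Finset.sum_mul, smul_mul_assoc, map_sum, map_smul, smul_eq_mul, ← map_mul]
    rfl
  rw [hk, hc, smul_mul_assoc, map_smul, smul_eq_mul, h1]
  field_simp
  rfl

theorem irr_inv (χ : Cfsg.IrrCharacter G) (g : G) :
    (χ : G → ℂ) g⁻¹ = conj ((χ : G → ℂ) g) := (conj_apply_eq_inv χ g).symm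

open scoped Classical in
/-- The kernel attached to a character. -/
noncomputable def kernelMat {R : Type*} [AddCommMonoid R] (f : G → R) (z w : Ω) : R :=
  ∑ g : G, if g • z = w then f g else 0

theorem kernelMat_smul {R : Type*} [AddCommMonoid R] (f : G → R)
    (hf : ∀ c g, f (c * g * c⁻¹) = f g) (c : G) (z w : Ω) :
    kernelMat f (c • z) (c • w) = kernelMat f z w := by
  classical
  unfold kernelMat
  refine (Fintype.sum_equiv (MulAut.conj c).toEquiv _ _ fun g => ?_).symm
  simp only [MulEquiv.toEquiv_eq_coe, MulEquiv.coe_toEquiv, MulAut.conj_apply, hf, mul_smul,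
    inv_smul_smul, smul_left_cancel_iff]

theorem kernelMat_diag_sum (f : G → ℂ) :
    ∑ z : Ω, kernelMat f z z = ∑ g : G, (Nat.card (fixedBy Ω g) : ℂ) * f g := by
  classical
  unfold kernelMat
  rw [Finset.sum_comm]
  refine Finset.sum_congr rfl fun g _ => ?_
  rw [← Finset.sum_filter, Finset.sum_const, nsmul_eq_mul, Nat.card_eq_fintype_card,
    Fintype.card_subtype]
  rfl

theorem kernelMat_symm (χ : Cfsg.IrrCharacter G) (z w : Ω) :
    kernelMat (χ : G → ℂ) w z = conj (kernelMat (χ : G → ℂ) z w) := by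
  classical
  unfold kernelMat
  rw [map_sum]
  refine Fintype.sum_equiv (Equiv.inv G) _ _ fun g => ?_
  simp only [Equiv.inv_apply, inv_smul_eq_iff, eq_comm (a := g • w)]
  split_ifs
  · rw [irr_inv, Complex.conj_conj]
  · rw [map_zero]

theorem kernelMat_sq (χ : Cfsg.IrrCharacter G) (z v : Ω) :
    ∑ w : Ω, kernelMat (χ : G → ℂ) z w * kernelMat (χ : G → ℂ) w v =
      (Nat.card G : ℂ) / (χ : G → ℂ) 1 * kernelMat (χ : G → ℂ) z v := by
  classical
  unfold kernelMat
  calc ∑ w : Ω, (∑ g : G, if g • z = w then (χ : G → ℂ) g else 0) *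
        (∑ h : G, if h • w = v then (χ : G → ℂ) h else 0)
      = ∑ g : G, ∑ h : G, if (h * g) • z = v then (χ : G → ℂ) g * (χ : G → ℂ) h else 0 := by
        simp only [Finset.sum_mul_sum]
        rw [Finset.sum_comm]
        refine Finset.sum_congr rfl fun g _ => ?_
        rw [Finset.sum_comm]
        refine Finset.sum_congr rfl fun h _ => ?_
        rw [Finset.sum_eq_single (g • z) (fun w _ hw => by simp [Ne.symm hw]) (by simp)]
        simp only [if_true, mul_smul]
        split_ifs <;> simp
    _ = ∑ g : G, ∑ k : G, if k • z = v then (χ : G → ℂ) g * (χ : G → ℂ) (k * g⁻¹) else 0 := by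
        refine Finset.sum_congr rfl fun g _ => ?_
        refine Fintype.sum_equiv (Equiv.mulRight g) _ _ fun h => ?_
        simp only [Equiv.coe_mulRight, mul_inv_cancel_right]
    _ = _ := by
        rw [Finset.sum_comm, Finset.mul_sum]
        refine Finset.sum_congr rfl fun k _ => ?_
        split_ifs with hk
        · rw [← irr_convolution χ k]
          refine Finset.sum_congr rfl fun g _ => ?_
          rw [← IsIrr.isClassFunction χ.2 (k * g⁻¹) g⁻¹]
          congr 2
          group
        · simp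

/-- The number of points `z` with `(z, g z)` in a relation. -/
noncomputable def pairCount (A : Set (Ω × Ω)) (g : G) : ℕ := Nat.card {z : Ω // (z, g • z) ∈ A}

variable {A : Set (Ω × Ω)}

theorem pairCount_conj (hA : ∀ (g : G) (z : Ω × Ω), z ∈ A → g • z ∈ A) (c g : G) :
    pairCount A (c * g * c⁻¹) = pairCount A g := by
  refine Nat.card_congr ((MulAction.toPerm c⁻¹).subtypeEquiv fun z => ?_)
  show (z, (c * g * c⁻¹) • z) ∈ A ↔ (c⁻¹ • z, g • c⁻¹ • z) ∈ A
  constructor
  · intro h
    have := hA c⁻¹ _ h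
    simpa [Prod.smul_mk, mul_smul] using this
  · intro h
    have := hA c _ h
    simpa [Prod.smul_mk, mul_smul] using this

open scoped Classical in
theorem sum_pairCount_mul {R : Type*} [CommSemiring R] (f : G → R) :
    ∑ g : G, (pairCount A g : R) * f g =
      ∑ z : Ω, ∑ w : Ω, if (z, w) ∈ A then kernelMat f z w else 0 := by
  calc ∑ g : G, (pairCount A g : R) * f g
      = ∑ g : G, ∑ z : Ω, if (z, g • z) ∈ A then f g else 0 := by
        refine Finset.sum_congr rfl fun g _ => ?_
        rw [← Finset.sum_filter, Finset.sum_const, nsmul_eq_mul, pairCount, Nat.card_eq_fintype_card,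
          Fintype.card_subtype]
    _ = _ := by
        rw [Finset.sum_comm]
        refine Finset.sum_congr rfl fun z _ => ?_
        unfold kernelMat
        rw [← Finset.sum_filter (s := Finset.univ) (p := fun w : Ω => (z, w) ∈ A), Finset.sum_comm]
        refine Finset.sum_congr rfl fun g _ => ?_
        rw [Finset.sum_ite_eq]
        simp

/-- Characters outside the permutation character are orthogonal to the orbital counts. -/
theorem sum_pairCount_eq_zero (χ : Cfsg.IrrCharacter G)
    (h0 : ∑ g : G, (Nat.card (fixedBy Ω g) : ℂ) * (χ : G → ℂ) g = 0) :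
    ∑ g : G, (pairCount A g : ℂ) * (χ : G → ℂ) g = 0 := by
  classical
  have hdiag : ∀ z : Ω, kernelMat (χ : G → ℂ) z z =
      (((χ : G → ℂ) 1 / (Nat.card G : ℂ)) * ∑ w : Ω, (Complex.normSq (kernelMat (χ : G → ℂ) z w) : ℂ)) := by
    intro z
    have h1 := kernelMat_sq χ z z
    rw [Finset.sum_congr rfl (g := fun w => (Complex.normSq (kernelMat (χ : G → ℂ) z w) : ℂ))
      fun w _ => by rw [kernelMat_symm χ z w, Complex.mul_conj]] at h1
    rw [h1]
    have hG0 : (Nat.card G : ℂ) ≠ 0 := Nat.cast_ne_zero.2 Nat.card_pos.ne'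
    have hd : (χ : G → ℂ) 1 ≠ 0 := irr_one_ne_zero χ.2
    field_simp
  have h2 := kernelMat_diag_sum (Ω := Ω) (χ : G → ℂ)
  rw [h0, Finset.sum_congr rfl fun z _ => hdiag z, ← Finset.mul_sum] at h2
  have h3 := (mul_eq_zero.1 h2).resolve_left
    (div_ne_zero (irr_one_ne_zero χ.2) (Nat.cast_ne_zero.2 Nat.card_pos.ne'))
  have h4 : ∑ z : Ω, ∑ w : Ω, Complex.normSq (kernelMat (χ : G → ℂ) z w) = 0 := by
    exact_mod_cast h3
  have h5 : ∀ z w : Ω, kernelMat (χ : G → ℂ) z w = 0 := by
    intro z w
    have h6 := (Finset.sum_eq_zero_iff_of_nonneg fun z _ => Finset.sum_nonneg fun w _ =>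
      Complex.normSq_nonneg _).1 h4 z (Finset.mem_univ _)
    exact Complex.normSq_eq_zero.1
      ((Finset.sum_eq_zero_iff_of_nonneg fun w _ => Complex.normSq_nonneg _).1 h6 w (Finset.mem_univ _))
  rw [sum_pairCount_mul]
  exact Finset.sum_eq_zero fun z _ => Finset.sum_eq_zero fun w _ => by rw [h5 z w, ite_self]

/-- The sum of the orbital counts. -/
theorem sum_pairCount [IsPretransitive G Ω] (hA : ∀ (g : G) (z : Ω × Ω), z ∈ A → g • z ∈ A)
    (x : Ω) : ∑ g : G, pairCount A g = Nat.card G * Nat.card {w : Ω // (x, w) ∈ A} := by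
  classical
  have h1 := sum_pairCount_mul (A := A) (fun _ : G => (1 : ℕ))
  simp only [Nat.cast_id, mul_one] at h1
  rw [h1]
  have hk : ∀ z w : Ω, kernelMat (fun _ : G => (1 : ℕ)) z w = Nat.card (stabilizer G z) := by
    intro z w
    obtain ⟨c, rfl⟩ := MulAction.exists_smul_eq G z w
    unfold kernelMat
    rw [← Finset.sum_filter, Finset.sum_const, smul_eq_mul, mul_one, Nat.card_eq_fintype_card,
      ← Fintype.card_subtype]
    exact Fintype.card_congr ((Equiv.mulLeft c⁻¹).subtypeEquiv fun g => by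
      simp [mem_stabilizer_iff, mul_smul, inv_smul_eq_iff])
  have hval : ∀ z : Ω, (∑ w : Ω, if (z, w) ∈ A then kernelMat (fun _ : G => (1 : ℕ)) z w else 0) =
      Nat.card (stabilizer G x) * Nat.card {w : Ω // (x, w) ∈ A} := by
    intro z
    rw [← Finset.sum_filter, Finset.sum_congr rfl fun w _ => hk z w, Finset.sum_const, smul_eq_mul,
      mul_comm]
    obtain ⟨c, rfl⟩ := MulAction.exists_smul_eq G x z
    congr 1
    · rw [stabilizer_smul_eq_stabilizer_map_conj]
      exact (Nat.card_congr ((stabilizer G x).equivMapOfInjective _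
        (MulAut.conj c).injective).toEquiv).symm
    · rw [Nat.card_eq_fintype_card, ← Fintype.card_subtype]
      refine Fintype.card_congr ((MulAction.toPerm c⁻¹).subtypeEquiv fun w => ?_)
      show (c • x, w) ∈ A ↔ (x, c⁻¹ • w) ∈ A
      constructor
      · intro h; simpa [Prod.smul_mk] using hA c⁻¹ _ h
      · intro h; simpa [Prod.smul_mk] using hA c _ h
  rw [Finset.sum_congr rfl fun z _ => hval z, Finset.sum_const, Finset.card_univ, smul_eq_mul,
    ← mul_assoc, ← Nat.card_eq_fintype_card, ← MulAction.index_stabilizer_of_transitive G x,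
    Subgroup.index_mul_card]

theorem fixedBy_add_pairCount {B : Set (Ω × Ω)} (hAd : ∀ z ∈ A, z.1 ≠ z.2)
    (hBd : ∀ z ∈ B, z.1 ≠ z.2) (hdisj : ∀ z, z ∈ A → z ∉ B)
    (hcov : ∀ z w : Ω, z ≠ w → (z, w) ∈ A ∨ (z, w) ∈ B) (g : G) :
    Nat.card (fixedBy Ω g) + pairCount A g + pairCount B g = Fintype.card Ω := by
  classical
  simp only [pairCount, Nat.card_eq_fintype_card]
  have e : Fintype.card (fixedBy Ω g) = (Finset.univ.filter fun z : Ω => g • z = z).card := by
    rw [← Fintype.card_subtype]; rfl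
  rw [e, Fintype.card_subtype, Fintype.card_subtype, ← Finset.card_univ,
    ← Finset.card_union_of_disjoint, ← Finset.card_union_of_disjoint]
  · congr 1
    ext z
    simp only [Finset.mem_union, Finset.mem_filter, Finset.mem_univ, true_and, iff_true]
    by_cases hz : g • z = z
    · exact Or.inl (Or.inl hz)
    · rcases hcov z (g • z) (Ne.symm hz) with h | h
      · exact Or.inl (Or.inr h)
      · exact Or.inr h
  · refine Finset.disjoint_left.2 fun z h1 h2 => ?_
    simp only [Finset.mem_union, Finset.mem_filter, Finset.mem_univ, true_and] at h1 h2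
    rcases h1 with h1 | h1
    · exact hBd _ h2 h1.symm
    · exact hdisj _ h1 h2
  · refine Finset.disjoint_left.2 fun z h1 h2 => ?_
    simp only [Finset.mem_filter, Finset.mem_univ, true_and] at h1 h2
    exact hAd _ h2 h1.symm

end Cfsg.Agent.H85.ThreeP
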