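import Cfsg.Agent.H85.ThreeP.Decomp
import Cfsg.Agent.H85.ThreeP.Orbital

/-!
# Simple transitive groups of degree `3 p`: the classes of pairs of points
-/

set_option linter.unusedSectionVars false
set_option linter.style.haveILetI false

open scoped ComplexConjugate

namespace Cfsg.Agent.H85.ThreeP

open MulAction CharBasic BlockBasic

universe u v

variable {G : Type u} [Group G] [Finite G] [Fintype G] {Ω : Type v} [Fintype Ω] [MulAction G Ω]

/-- The pairs in an orbit of `G` on ordered pairs of distinct points. -/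
def pairsOf (q : Quotient (orbitRel G (Fin 2 ↪ Ω))) : Set (Ω × Ω) :=
  {z | ∃ e : Fin 2 ↪ Ω, Quotient.mk _ e = q ∧ (e 0, e 1) = z}

variable {q q' : Quotient (orbitRel G (Fin 2 ↪ Ω))}

theorem pairsOf_inv (g : G) (z : Ω × Ω) (hz : z ∈ pairsOf q) : g • z ∈ pairsOf q := by
  obtain ⟨e, he, rfl⟩ := hz
  exact ⟨g • e, (Quotient.sound (s := orbitRel G (Fin 2 ↪ Ω)) (a := g • e) (b := e) ⟨g, rfl⟩).trans he, rfl⟩

theorem pairsOf_ne {z : Ω × Ω} (hz : z ∈ pairsOf q) : z.1 ≠ z.2 := by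
  obtain ⟨e, -, rfl⟩ := hz
  exact e.injective.ne (by decide)

theorem pairsOf_trans {z z' : Ω × Ω} (hz : z ∈ pairsOf q) (hz' : z' ∈ pairsOf q) :
    ∃ g : G, g • z = z' := by
  obtain ⟨e, he, rfl⟩ := hz
  obtain ⟨e', he', rfl⟩ := hz'
  obtain ⟨g, hg⟩ := Quotient.exact (he'.trans he.symm)
  refine ⟨g, ?_⟩
  rw [← show g • e = e' from hg]
  rfl

theorem pairsOf_disjoint (hq : q ≠ q') {z : Ω × Ω} (hz : z ∈ pairsOf q) : z ∉ pairsOf q' := by
  rintro ⟨e', he', hee⟩
  obtain ⟨e, he, rfl⟩ := hz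
  refine hq (he.symm.trans (Eq.trans ?_ he'))
  congr 1
  refine Function.Embedding.ext fun i => ?_
  fin_cases i
  · exact (congrArg Prod.fst hee).symm
  · exact (congrArg Prod.snd hee).symm

theorem mem_pairsOf_mk {z w : Ω} (hzw : z ≠ w) :
    ∃ q : Quotient (orbitRel G (Fin 2 ↪ Ω)), (z, w) ∈ pairsOf q := by
  let e : Fin 2 ↪ Ω := ⟨![z, w], by
    intro i j hij
    fin_cases i <;> fin_cases j <;> simp_all⟩
  exact ⟨Quotient.mk _ e, e, rfl, rfl⟩

theorem pairsOf_valency_pos [IsPretransitive G Ω] (q : Quotient (orbitRel G (Fin 2 ↪ Ω))) (x : Ω) :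
    0 < Nat.card {w : Ω // (x, w) ∈ pairsOf q} := by
  induction q using Quotient.inductionOn with
  | h e =>
    obtain ⟨g, hg⟩ := MulAction.exists_smul_eq G (e 0) x
    haveI : Nonempty {w : Ω // (x, w) ∈ pairsOf (Quotient.mk (orbitRel G (Fin 2 ↪ Ω)) e)} :=
      ⟨⟨g • e 1, by rw [← hg]; exact pairsOf_inv g (e 0, e 1) ⟨e, rfl, rfl⟩⟩⟩
    exact Nat.card_pos

/-- The valency divides the order of a point stabilizer. -/
theorem pairsOf_valency_dvd [IsPretransitive G Ω] (q : Quotient (orbitRel G (Fin 2 ↪ Ω))) (x : Ω) :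
    Nat.card {w : Ω // (x, w) ∈ pairsOf q} ∣ Nat.card (stabilizer G x) := by
  haveI : Nonempty {w : Ω // (x, w) ∈ pairsOf q} := by
    have := pairsOf_valency_pos q x
    exact (Nat.card_pos_iff.1 this).1
  obtain ⟨w, hw⟩ := Classical.arbitrary {w : Ω // (x, w) ∈ pairsOf q}
  have he : {w : Ω | (x, w) ∈ pairsOf q} = orbit (stabilizer G x) w := by
    ext w'
    constructor
    · intro hw'
      obtain ⟨g, hg⟩ := pairsOf_trans hw hw'
      exact ⟨⟨g, congrArg Prod.fst hg⟩, congrArg Prod.snd hg⟩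
    · rintro ⟨⟨g, hg⟩, rfl⟩
      show (x, g • w) ∈ pairsOf q
      have := pairsOf_inv g _ hw
      rwa [Prod.smul_mk, show g • x = x from hg] at this
  rw [show Nat.card {w : Ω // (x, w) ∈ pairsOf q} = Nat.card (orbit (stabilizer G x) w) from
    Nat.card_congr (Equiv.setCongr he), Nat.card_congr (orbitEquivQuotientStabilizer (stabilizer G x) w)]
  exact Subgroup.card_quotient_dvd_card _

variable {p : ℕ} [hp : Fact p.Prime] {P : Sylow p G} (h : Hyp Ω P)

include h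

theorem Hyp.sum_fx : ∑ g : G, fx Ω g = Nat.card G := by
  have h1 := h.classInner_one
  rw [classInner_def, inv_mul_eq_iff_eq_mul₀ (Nat.cast_ne_zero.2 Nat.card_pos.ne'), mul_one] at h1
  simp only [map_one, mul_one] at h1
  exact_mod_cast h1

theorem Hyp.sum_fx_pair :
    ∑ g : G, fx Ω g * (fx Ω g - 1) =
      (Nat.card (Quotient (orbitRel G (Fin 2 ↪ Ω))) : ℤ) * Nat.card G := by
  have h1 := H84.TwoP.sum_descFactorial_fixed (H := G) (X := Ω) 2
  rw [← Nat.cast_inj (R := ℤ)] at h1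
  push_cast at h1
  rw [← h1]
  refine Finset.sum_congr rfl fun g _ => ?_
  rw [fx]
  rcases Nat.card (fixedBy Ω g) with _ | m
  · simp
  · simp [Nat.descFactorial]; ring

theorem Hyp.dvd_pairCount {A : Set (Ω × Ω)} (hA : ∀ (g : G) (z : Ω × Ω), z ∈ A → g • z ∈ A) {y : G}
    (hy : y ∈ (P : Subgroup G)) (hy1 : y ≠ 1) : p ∣ pairCount A y :=
  h.dvd_card_of_invariant hy hy1 {z | (z, y • z) ∈ A} fun z hz => by
    have := hA y _ hz
    rwa [Prod.smul_mk] at this

end Cfsg.Agent.H85.ThreeP
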