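import Cfsg.Agent.H85.ThreeP.PairClasses

/-!
# The case `θ(1) = 2 p - 1`: the group has order `360`
-/

set_option linter.unusedSectionVars false
set_option linter.style.haveILetI false
set_option maxHeartbeats 2000000

open scoped ComplexConjugate

namespace Cfsg.Agent.H85.ThreeP

open MulAction CharBasic BlockBasic

universe u v

variable {G : Type u} [Group G] [Finite G] [Fintype G] {Ω : Type v} [Fintype Ω] [MulAction G Ω]
  {p : ℕ} [hp : Fact p.Prime] {P : Sylow p G}

/-- A character containing the trivial and another irreducible character. -/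
theorem add_degree_le {H : Type u} [Group H] [Fintype H] {C : H → ℂ} (hC : Cfsg.IsCharacter H C)
    {φ : Cfsg.IrrCharacter H} (hφ : φ ≠ trivialIrr) {n₁ : ℕ}
    (h1 : classInner C (fun _ => (1 : ℂ)) = (n₁ : ℂ)) {n₂ : ℕ}
    (h2 : classInner C (φ : H → ℂ) = (n₂ : ℂ)) {d : ℕ} (hd : C 1 = (d : ℂ)) :
    n₁ + n₂ * charDegree (φ : H → ℂ) ≤ d := by
  classical
  choose m hm using fun χ : Cfsg.IrrCharacter H => classInner_isChar_nat hC (IsIrr.isCharacter χ.2)
  have he := congrFun (classFunction_expansion (IsChar.isClassFunction hC)) 1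
  simp only [hm, Finset.sum_apply, Pi.smul_apply, smul_eq_mul, apply_one_eq_charDegree, hd] at he
  have he' : d = ∑ χ : Cfsg.IrrCharacter H, m χ * charDegree (χ : H → ℂ) := by exact_mod_cast he
  have e1 : m trivialIrr = n₁ := by
    apply Nat.cast_injective (R := ℂ)
    rw [← hm, ← h1]; rfl
  have e2 : m φ = n₂ := by
    apply Nat.cast_injective (R := ℂ)
    rw [← hm, ← h2]
  have hd1 : charDegree ((trivialIrr : Cfsg.IrrCharacter H) : H → ℂ) = 1 := by
    have h1 := apply_one_eq_charDegree (trivialIrr : Cfsg.IrrCharacter H)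
    simp only [trivialIrr] at h1 ⊢
    exact_mod_cast h1.symm
  have hle := Finset.sum_le_sum_of_subset (f := fun χ : Cfsg.IrrCharacter H =>
    m χ * charDegree (χ : H → ℂ)) (Finset.subset_univ {trivialIrr, φ})
  rw [Finset.sum_pair (Ne.symm hφ), e1, e2, hd1, mul_one, ← he'] at hle
  exact hle

variable (h : Hyp Ω P)

include h

theorem Hyp.sum_stabilizer {F : G → ℤ} (hF : ∀ c g, F (c * g * c⁻¹) = F g) (x : Ω)
    [Fintype (stabilizer G x)] :
    ∑ g : G, fx Ω g * F g = (3 * p : ℤ) * ∑ s : stabilizer G x, F (s : G) := by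
  classical
  haveI := h.trans
  have hd : ∀ z : Ω, kernelMat F z z = kernelMat F x x := fun z => by
    obtain ⟨c, rfl⟩ := MulAction.exists_smul_eq G x z
    exact kernelMat_smul F hF c x x
  have h1 : ∑ z : Ω, kernelMat F z z = ∑ g : G, fx Ω g * F g := by
    unfold kernelMat
    rw [Finset.sum_comm]
    refine Finset.sum_congr rfl fun g _ => ?_
    rw [← Finset.sum_filter, Finset.sum_const, nsmul_eq_mul, fx, Nat.card_eq_fintype_card,
      Fintype.card_subtype]
    rfl
  rw [← h1, Finset.sum_congr rfl fun z _ => hd z, Finset.sum_const, Finset.card_univ, h.card_pts,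
    nsmul_eq_mul]
  push_cast
  refine congrArg _ ?_
  unfold kernelMat
  rw [← Finset.sum_filter]
  exact Finset.sum_subtype _ (fun g => by simp [mem_stabilizer_iff]) F

variable {θ : IrrCharacter G} {Y : Finset (IrrCharacter G)} {a : ℤ}

theorem Hyp.rank_three (D : Data P θ Y a) (ha : a = -1)
    (hf : charDegree (θ : G → ℂ) + 1 = 2 * p) {χ : IrrCharacter G} (hχ1 : χ ≠ trivialIrr)
    (hχ2 : χ ≠ θ) (_hχ3 : χ ∉ Y) (hχd : charDegree (χ : G → ℂ) = p)
    (hπ : ∀ g, (fx Ω g : ℂ) = 1 + (θ : G → ℂ) g + (χ : G → ℂ) g) :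
    p = 5 ∧ Nat.card G = 360 := by
  classical
  subst ha
  haveI := h.trans
  obtain ⟨k, hk, hksing, hk1, hklt⟩ := h.exists_int D
  obtain ⟨x⟩ := h.nonempty
  obtain ⟨y, hy, hy1⟩ := h.exists_ne_one
  set Gc : ℤ := (Nat.card G : ℤ) with hGc
  have hGpos : 0 < Gc := by rw [hGc]; exact_mod_cast Nat.card_pos
  have hp0 : (0 : ℤ) < p := by exact_mod_cast hp.out.pos
  have h5 : (5 : ℤ) ≤ p := by exact_mod_cast h.five_le
  have hG0 : (Nat.card G : ℂ) ≠ 0 := Nat.cast_ne_zero.2 Nat.card_pos.ne'
  set kc : G → ℤ := fun g => fx Ω g - 1 - k g with hkc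
  have hkcv : ∀ g, (χ : G → ℂ) g = (kc g : ℂ) := fun g => by
    simp only [hkc]; push_cast; rw [hπ g, ← hk]; ring
  have hk1' : k 1 = 2 * (p : ℤ) - 1 := by rw [hk1]; omega
  have hkc1 : kc 1 = p := by simp only [hkc]; rw [h.fx_one, hk1']; ring
  have hkcs : ∀ g, p ∣ orderOf g → kc g = 0 := fun g hg => by
    simp only [hkc]; rw [h.fx_singular hg, hksing g hg]; ring
  have hkclt : ∀ g, g ≠ 1 → kc g < p := by
    intro g hg1
    have h1 := IsChar.norm_le (IsIrr.isCharacter χ.2) g
    rw [hkcv, apply_one_eq_charDegree χ, hχd, Complex.norm_intCast, Complex.norm_natCast] at h1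
    have h2 : |kc g| ≤ (p : ℤ) := by exact_mod_cast h1
    refine lt_of_le_of_ne ((le_abs_self _).trans h2) fun e => hg1 (h.faithful_irr χ hχ1 g ?_)
    rw [hkcv, apply_one_eq_charDegree, hχd, e]
    push_cast
    rfl
  -- orthogonality
  have horth : ∀ φ ψ : IrrCharacter G, ∀ u v : G → ℤ, (∀ g, (φ : G → ℂ) g = (u g : ℂ)) →
      (∀ g, (ψ : G → ℂ) g = (v g : ℂ)) →
      ∑ g, u g * v g = if φ = ψ then Gc else 0 := by
    intro φ ψ u v hu hv
    have h1 := classInner_irrCharacter φ ψ
    rw [classInner_def, inv_mul_eq_iff_eq_mul₀ hG0] at h1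
    apply Int.cast_injective (α := ℂ)
    push_cast
    rw [Finset.sum_congr rfl (g := fun g => (φ : G → ℂ) g * conj ((ψ : G → ℂ) g)) fun g _ => by
      rw [hu, hv, map_intCast], h1]
    split_ifs <;> simp [hGc]
  have htr : ∀ g, ((trivialIrr : IrrCharacter G) : G → ℂ) g = ((1 : ℤ) : ℂ) := fun g => by
    simp [trivialIrr]
  have Skk : ∑ g, k g * k g = Gc := by simpa using horth θ θ k k hk hk
  have Scc : ∑ g, kc g * kc g = Gc := by simpa using horth χ χ kc kc hkcv hkcv
  have Skc : ∑ g, k g * kc g = 0 := by simpa [hχ2.symm] using horth θ χ k kc hk hkcv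
  have Sk : ∑ g, k g = 0 := by simpa [D.θ_ne] using horth θ trivialIrr k (fun _ => 1) hk htr
  have Sc : ∑ g, kc g = 0 := by simpa [hχ1] using horth χ trivialIrr kc (fun _ => 1) hkcv htr
  have S1 : ∑ _g : G, (1 : ℤ) = Gc := by simp [hGc, Nat.card_eq_fintype_card]
  -- rank three
  have hr2 : Nat.card (Quotient (orbitRel G (Fin 2 ↪ Ω))) = 2 := by
    have h1 := h.sum_fx_pair
    have h2 : ∑ g : G, fx Ω g * (fx Ω g - 1) = 2 * Gc := by
      rw [Finset.sum_congr rfl (g := fun g => (k g * k g + kc g * kc g + 2 * (k g * kc g) + k g) + kc g)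
        fun g _ => by simp only [hkc]; ring]
      simp only [Finset.sum_add_distrib, ← Finset.mul_sum, Skk, Scc, Skc, Sk, Sc]
      ring
    rw [h2] at h1
    exact_mod_cast (mul_right_cancel₀ hGpos.ne' h1.symm :)
  obtain ⟨q₁, q₂, hq, huniv⟩ := Nat.card_eq_two_iff.1 hr2
  have hcov : ∀ z w : Ω, z ≠ w → (z, w) ∈ pairsOf q₁ ∨ (z, w) ∈ pairsOf q₂ := by
    intro z w hzw
    obtain ⟨q, hqz⟩ := mem_pairsOf_mk (G := G) hzw
    have := huniv ▸ Set.mem_univ q
    rcases this with e | e
    · exact Or.inl (e ▸ hqz)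
    · exact Or.inr ((Set.mem_singleton_iff.1 e) ▸ hqz)
  have hT : ∀ g : G, fx Ω g + (pairCount (pairsOf q₁) g : ℤ) + (pairCount (pairsOf q₂) g : ℤ) = 3 * p :=
    fun g => by
    have := fixedBy_add_pairCount (A := pairsOf q₁) (B := pairsOf q₂) (fun z hz => pairsOf_ne hz)
      (fun z hz => pairsOf_ne hz) (fun z hz => pairsOf_disjoint hq hz) hcov g
    rw [h.card_pts, ← Nat.cast_inj (R := ℤ)] at this
    push_cast at this
    exact this
  -- the data of an orbital
  have horb : ∀ q : Quotient (orbitRel G (Fin 2 ↪ Ω)), ∃ (val r : ℤ) (t : ℕ), 0 < val ∧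
      (Nat.card {w : Ω // (x, w) ∈ pairsOf q} : ℤ) = val ∧
      (pairCount (pairsOf q) y : ℤ) = val - r ∧ val - r = p * t ∧
      (∀ g, (p : ℤ) * pairCount (pairsOf q) g =
        p * val + r * p * k g - (val + r * (2 * p - 1)) * kc g) ∧
      ∑ g, (pairCount (pairsOf q) g : ℤ) * k g = r * Gc := by
    intro q
    set T : G → ℤ := fun g => (pairCount (pairsOf q) g : ℤ) with hTdef
    set val : ℤ := (Nat.card {w : Ω // (x, w) ∈ pairsOf q} : ℤ) with hvaldef
    have hcl : IsClassFunction G (fun g => (T g : ℂ)) := fun g c => by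
      simp only [hTdef]; rw [pairCount_conj (fun g z => pairsOf_inv g z) c g]
    have hval : classInner (fun g => (T g : ℂ)) ((trivialIrr : IrrCharacter G) : G → ℂ) = val := by
      rw [classInner_def]
      simp only [trivialIrr, map_one, mul_one]
      rw [inv_mul_eq_iff_eq_mul₀ hG0]
      have := sum_pairCount (A := pairsOf q) (fun g z => pairsOf_inv g z) x
      simp only [hTdef, hvaldef]
      push_cast
      exact_mod_cast this
    set β := classInner (fun g => (T g : ℂ)) (θ : G → ℂ) with hβ
    set γ := classInner (fun g => (T g : ℂ)) (χ : G → ℂ) with hγ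
    have hexp : ∀ g, (T g : ℂ) = val + β * (k g : ℂ) + γ * (kc g : ℂ) := by
      intro g
      conv_lhs => rw [show (T g : ℂ) = (fun g => (T g : ℂ)) g from rfl, classFunction_expansion hcl]
      simp only [Finset.sum_apply, Pi.smul_apply, smul_eq_mul]
      rw [← Finset.sum_subset (Finset.subset_univ {trivialIrr, θ, χ}) fun ψ _ hψ => ?_,
        Finset.sum_insert (by simp [D.θ_ne.symm, hχ1.symm]), Finset.sum_pair hχ2.symm, hval, ← hβ,
        ← hγ, hk, hkcv]
      · simp [trivialIrr]; ring
      · simp only [Finset.mem_insert, Finset.mem_singleton, not_or] at hψ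
        refine mul_eq_zero_of_left ?_ _
        have hzero : ∀ φ : IrrCharacter G, φ ≠ ψ →
            ∑ g, (φ : G → ℂ) g * conj ((ψ : G → ℂ) g) = 0 := fun φ hφ => by
          have h1 := classInner_irrCharacter φ ψ
          rw [if_neg hφ, classInner_def, mul_eq_zero] at h1
          exact h1.resolve_left (inv_ne_zero hG0)
        have h0 : ∑ g : G, (Nat.card (fixedBy Ω g) : ℂ) * (ψ : G → ℂ) g = 0 := by
          have h2 : ∑ g : G, (fx Ω g : ℂ) * conj ((ψ : G → ℂ) g) = 0 := by
            rw [Finset.sum_congr rfl (g := fun g => ((trivialIrr : IrrCharacter G) : G → ℂ) g *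
              conj ((ψ : G → ℂ) g) + (θ : G → ℂ) g * conj ((ψ : G → ℂ) g) +
              (χ : G → ℂ) g * conj ((ψ : G → ℂ) g)) fun g _ => by
                rw [hπ g]; simp [trivialIrr]; ring,
              Finset.sum_add_distrib, Finset.sum_add_distrib, hzero _ (Ne.symm hψ.1),
              hzero _ (Ne.symm hψ.2.1), hzero _ (Ne.symm hψ.2.2)]
            ring
          have := congrArg (starRingEnd ℂ) h2
          rw [map_zero, map_sum] at this
          rw [← this]
          refine Finset.sum_congr rfl fun g _ => ?_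
          rw [map_mul, Complex.conj_conj, map_intCast, fx, Int.cast_natCast]
        have h3 := congrArg (starRingEnd ℂ) (sum_pairCount_eq_zero (A := pairsOf q) ψ h0)
        rw [map_zero, map_sum] at h3
        rw [classInner_def]
        refine mul_eq_zero_of_right _ (Eq.trans (Finset.sum_congr rfl fun g _ => ?_) h3)
        simp only [hTdef, map_mul, Complex.conj_natCast]
        push_cast
        rfl
    have hys : p ∣ orderOf y := by rw [h.orderOf_eq hy hy1]
    set r : ℤ := val - T y with hr
    have hβr : β = r := by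
      have := hexp y
      rw [hksing y hys, hkcs y hys] at this
      rw [hr]; push_cast at this ⊢; linear_combination this
    have hγ' : γ * (p : ℂ) = -((val : ℂ) + r * (2 * p - 1)) := by
      have := hexp 1
      rw [hk1', hkc1, hβr, show T 1 = 0 from ?_] at this
      · push_cast at this; linear_combination -this
      · simp only [hTdef, pairCount, Nat.cast_eq_zero, one_smul]
        haveI : IsEmpty {z : Ω // (z, z) ∈ pairsOf q} := ⟨fun z => pairsOf_ne z.2 rfl⟩
        exact Nat.card_of_isEmpty
    obtain ⟨t, ht⟩ := h.dvd_pairCount (A := pairsOf q) (fun g z => pairsOf_inv g z) hy hy1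
    refine ⟨val, r, t, ?_, rfl, by rw [hr]; ring, ?_, fun g => ?_, ?_⟩
    · rw [hvaldef]; exact_mod_cast pairsOf_valency_pos q x
    · rw [hr]; simp only [hTdef]; rw [ht]; push_cast; ring
    · apply Int.cast_injective (α := ℂ)
      have := hexp g
      simp only [hTdef] at this
      push_cast at this ⊢
      rw [this, hβr]
      linear_combination (kc g : ℂ) * hγ'
    · apply Int.cast_injective (α := ℂ)
      push_cast
      have h1 := hβ
      rw [classInner_def, eq_inv_mul_iff_mul_eq₀ hG0] at h1
      rw [← hβr, hGc, Int.cast_natCast, mul_comm, h1]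
      refine Finset.sum_congr rfl fun g _ => ?_
      rw [hk, map_intCast]
      simp [hTdef]
  obtain ⟨A₀, r₁, t₁, hA₀, hA₀', hTy₁, ht₁, hT₁, hS₁⟩ := horb q₁
  obtain ⟨B₀, r₂, t₂, hB₀, hB₀', hTy₂, ht₂, hT₂, hS₂⟩ := horb q₂
  have hys : p ∣ orderOf y := by rw [h.orderOf_eq hy hy1]
  have hab : A₀ + B₀ + 1 = 3 * p := by
    have h1 := Finset.sum_congr rfl fun g (_ : g ∈ Finset.univ) => hT g
    simp only [Finset.sum_add_distrib, h.sum_fx] at h1
    have e1 := sum_pairCount (A := pairsOf q₁) (fun g z => pairsOf_inv g z) x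
    have e2 := sum_pairCount (A := pairsOf q₂) (fun g z => pairsOf_inv g z) x
    rw [← Nat.cast_inj (R := ℤ)] at e1 e2
    push_cast at e1 e2
    rw [e1, e2, hA₀', hB₀', Finset.sum_const, Finset.card_univ, ← Nat.card_eq_fintype_card,
      nsmul_eq_mul, ← hGc] at h1
    exact mul_left_cancel₀ hGpos.ne' (by linear_combination h1)
  have hrr : r₁ + r₂ = -1 := by
    have := hT y
    rw [hTy₁, hTy₂, h.fx_singular hys] at this
    linarith
  -- the idempotent equation
  set S : ℤ := (Nat.card (stabilizer G x) : ℤ) with hSdef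
  have hS0 : 0 < S := by rw [hSdef]; exact_mod_cast Nat.card_pos
  have hGS : Gc = 3 * p * S := by
    rw [hGc, ← h.stabilizer_card x, hSdef]; push_cast; ring
  have hclk : ∀ c g, k (c * g * c⁻¹) = k g := fun c g =>
    Int.cast_injective (α := ℂ) (by rw [← hk, ← hk, IsIrr.isClassFunction θ.2 g c])
  have hclc : ∀ c g, kc (c * g * c⁻¹) = kc g := fun c g => by
    simp only [hkc, hclk, fx_class]
  have hKx : kernelMat k x x = S := by
    have h1 : ∑ z : Ω, kernelMat k z z = ∑ g : G, fx Ω g * k g := by
      unfold kernelMat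
      rw [Finset.sum_comm]
      refine Finset.sum_congr rfl fun g _ => ?_
      rw [← Finset.sum_filter, Finset.sum_const, nsmul_eq_mul, fx, Nat.card_eq_fintype_card,
        Fintype.card_subtype]
      rfl
    rw [Finset.sum_congr rfl fun z _ => show kernelMat k z z = kernelMat k x x by
        obtain ⟨c, rfl⟩ := MulAction.exists_smul_eq G x z
        exact kernelMat_smul k hclk c x x,
      Finset.sum_const, Finset.card_univ, h.card_pts, nsmul_eq_mul,
      Finset.sum_congr rfl (g := fun g => k g + k g * k g + k g * kc g)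
        (s₁ := Finset.univ) fun g _ => by simp only [hkc]; ring] at h1
    simp only [Finset.sum_add_distrib, Sk, Skk, Skc] at h1
    refine mul_left_cancel₀ (show (3 * (p : ℤ)) ≠ 0 by omega) ?_
    push_cast at h1
    linear_combination h1 + hGS
  have hK : ∀ (q : Quotient (orbitRel G (Fin 2 ↪ Ω))) (V R : ℤ),
      (Nat.card {w : Ω // (x, w) ∈ pairsOf q} : ℤ) = V →
      ∑ g, (pairCount (pairsOf q) g : ℤ) * k g = R * Gc →
      V * ∑ w ∈ Finset.univ.filter (fun w => (x, w) ∈ pairsOf q), kernelMat k x w ^ 2 =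
        (R * S) ^ 2 := by
    intro q V R hV hR
    rw [sum_pairCount_mul] at hR
    have hrow : ∀ z : Ω, (∑ w : Ω, if (z, w) ∈ pairsOf q then kernelMat k z w else 0) =
        ∑ w : Ω, if (x, w) ∈ pairsOf q then kernelMat k x w else 0 := by
      intro z
      obtain ⟨c, rfl⟩ := MulAction.exists_smul_eq G x z
      refine (Fintype.sum_equiv (MulAction.toPerm c) _ _ fun w => ?_).symm
      simp only [MulAction.toPerm_apply, kernelMat_smul k hclk c]
      refine if_congr ⟨fun hm => by simpa using pairsOf_inv c _ hm, fun hm => ?_⟩ rfl rfl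
      simpa [Prod.smul_mk] using pairsOf_inv c⁻¹ _ hm
    rw [Finset.sum_congr rfl fun z _ => hrow z, Finset.sum_const, Finset.card_univ, h.card_pts,
      nsmul_eq_mul, ← Finset.sum_filter, hGS] at hR
    have hsum : ∑ w ∈ Finset.univ.filter (fun w => (x, w) ∈ pairsOf q), kernelMat k x w = R * S :=
      mul_left_cancel₀ (show (3 * (p : ℤ)) ≠ 0 by omega) (by push_cast at hR; linear_combination hR)
    obtain ⟨w₀, hw₀⟩ : ∃ w, w ∈ Finset.univ.filter (fun w => (x, w) ∈ pairsOf q) := by
      obtain ⟨⟨w, hw⟩⟩ := (Nat.card_pos_iff.1 (pairsOf_valency_pos q x)).1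
      exact ⟨w, by simpa using hw⟩
    have hconst : ∀ w ∈ Finset.univ.filter (fun w => (x, w) ∈ pairsOf q),
        kernelMat k x w = kernelMat k x w₀ := by
      intro w hw
      obtain ⟨c, hc⟩ := pairsOf_trans (Finset.mem_filter.1 hw₀).2 (Finset.mem_filter.1 hw).2
      rw [Prod.smul_mk, Prod.mk.injEq] at hc
      have := kernelMat_smul k hclk c x w₀
      rwa [hc.1, hc.2] at this
    have hcardV : ((Finset.univ.filter (fun w => (x, w) ∈ pairsOf q)).card : ℤ) = V := by
      rw [← hV, Nat.card_eq_fintype_card, Fintype.card_subtype]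
    rw [Finset.sum_congr rfl hconst, Finset.sum_const, nsmul_eq_mul, hcardV] at hsum
    rw [Finset.sum_congr rfl fun w hw => by rw [hconst w hw], Finset.sum_const, nsmul_eq_mul,
      hcardV, ← hsum]
    ring
  have hidem : (2 * (p : ℤ) - 1) * (A₀ * B₀ + r₁ ^ 2 * B₀ + r₂ ^ 2 * A₀) = 3 * p * (A₀ * B₀) := by
    have h1 := kernelMat_sq θ x x
    have hcastK : ∀ z w : Ω, kernelMat (θ : G → ℂ) z w = ((kernelMat k z w : ℤ) : ℂ) := fun z w => by
      unfold kernelMat
      push_cast
      exact Finset.sum_congr rfl fun g _ => by split_ifs <;> simp [hk]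
    have hsym : ∀ w : Ω, kernelMat k w x = kernelMat k x w := fun w => by
      have := kernelMat_symm θ x w
      rw [hcastK, hcastK, map_intCast] at this
      exact_mod_cast this
    have hθ1 : (θ : G → ℂ) 1 = (k 1 : ℂ) := hk 1
    rw [hθ1, hcastK, hKx, Finset.sum_congr rfl fun w _ => by rw [hcastK, hcastK, hsym w]] at h1
    have hk0 : (k 1 : ℂ) ≠ 0 := by rw [hk1']; exact_mod_cast (show (2 * (p : ℤ) - 1) ≠ 0 by omega)
    rw [div_mul_eq_mul_div, eq_div_iff hk0] at h1
    have h2 : (∑ w : Ω, kernelMat k x w ^ 2) * k 1 = Gc * S := by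
      apply Int.cast_injective (α := ℂ)
      push_cast
      rw [hGc, Int.cast_natCast, ← h1]
      congr 1
      exact Finset.sum_congr rfl fun w _ => by ring
    have hunion : (Finset.univ : Finset Ω) = insert x
        (Finset.univ.filter (fun w => (x, w) ∈ pairsOf q₁) ∪
          Finset.univ.filter (fun w => (x, w) ∈ pairsOf q₂)) := by
      ext w
      simp only [Finset.mem_univ, Finset.mem_insert, Finset.mem_union, Finset.mem_filter, true_and,
        true_iff]
      by_cases hw : w = x
      · exact Or.inl hw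
      · exact Or.inr (hcov x w (Ne.symm hw))
    rw [hunion, Finset.sum_insert (by
        simp only [Finset.mem_union, Finset.mem_filter, Finset.mem_univ, true_and, not_or]
        exact ⟨fun e => pairsOf_ne e rfl, fun e => pairsOf_ne e rfl⟩),
      Finset.sum_union (Finset.disjoint_filter.2 fun w _ h1 h2 => pairsOf_disjoint hq h1 h2),
      hKx, hk1', hGS] at h2
    refine mul_left_cancel₀ (pow_ne_zero 2 hS0.ne') ?_
    linear_combination (A₀ * B₀) * h2 - (2 * (p : ℤ) - 1) * B₀ * hK q₁ A₀ r₁ hA₀' hS₁ -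
      (2 * (p : ℤ) - 1) * A₀ * hK q₂ B₀ r₂ hB₀' hS₂
  -- choose the orbital with `t ≤ 1`
  have htt : t₁ + t₂ = 3 := by
    have : (p : ℤ) * ((t₁ : ℤ) + t₂) = p * 3 := by linear_combination -ht₁ - ht₂ + hab - hrr
    have := mul_left_cancel₀ hp0.ne' this
    omega
  obtain ⟨qA, qB, hqq, a₀, b₀, r, t, ha0, hb0, hTA, hTB, htA, hsa, hsb, habs, hida, haval, hbval⟩ :
      ∃ qA qB : Quotient (orbitRel G (Fin 2 ↪ Ω)), qA ≠ qB ∧ ∃ (a₀ b₀ r : ℤ) (t : ℕ), 0 < a₀ ∧
        0 < b₀ ∧
        (∀ g, (p : ℤ) * pairCount (pairsOf qA) g =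
          p * a₀ + r * p * k g - (a₀ + r * (2 * p - 1)) * kc g) ∧
        (∀ g, (p : ℤ) * pairCount (pairsOf qB) g =
          p * b₀ + (-1 - r) * p * k g - (b₀ + (-1 - r) * (2 * p - 1)) * kc g) ∧
        a₀ - r = p * t ∧ t ≤ 1 ∧ (∀ g, fx Ω g + (pairCount (pairsOf qA) g : ℤ) +
          (pairCount (pairsOf qB) g : ℤ) = 3 * p) ∧ a₀ + b₀ + 1 = 3 * p ∧
        (2 * (p : ℤ) - 1) * (a₀ * b₀ + r ^ 2 * b₀ + (-1 - r) ^ 2 * a₀) = 3 * p * (a₀ * b₀) ∧
        (Nat.card {w : Ω // (x, w) ∈ pairsOf qA} : ℤ) = a₀ ∧
        (Nat.card {w : Ω // (x, w) ∈ pairsOf qB} : ℤ) = b₀ := by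
    rcases (show t₁ ≤ 1 ∨ t₂ ≤ 1 by omega) with ht | ht
    · obtain rfl : r₂ = -1 - r₁ := by linarith
      exact ⟨q₁, q₂, hq, A₀, B₀, r₁, t₁, hA₀, hB₀, hT₁, hT₂, ht₁, ht, hT, hab, hidem, hA₀', hB₀'⟩
    · obtain rfl : r₁ = -1 - r₂ := by linarith
      exact ⟨q₂, q₁, hq.symm, B₀, A₀, r₂, t₂, hB₀, hA₀, hT₂, hT₁, ht₂, ht,
        fun g => by linear_combination hT g, by linear_combination hab,
        by linear_combination hidem, hB₀', hA₀'⟩
  obtain rfl : a₀ = r + p * t := by linarith
  obtain rfl : b₀ = 3 * p - 1 - (r + p * t) := by linarith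
  have ht1 : t = 1 := by
    by_contra hne
    obtain rfl : t = 0 := by omega
    push_cast at hida ha0
    have : (p : ℤ) ^ 2 * r * (6 * r - 3) = 0 := by linear_combination hida
    rcases mul_eq_zero.1 this with e | e
    · rcases mul_eq_zero.1 e with e | e
      · exact pow_ne_zero 2 hp0.ne' e
      · omega
    · omega
  subst ht1
  push_cast at hida ha0 hb0 hTA hTB haval hbval
  have hrp : 6 * r ^ 2 + 3 * r + 1 = 2 * (p : ℤ) := by
    have : (p : ℤ) ^ 2 * (6 * r ^ 2 + 3 * r + 1 - 2 * p) = 0 := by linear_combination hida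
    rcases mul_eq_zero.1 this with e | e
    · exact absurd e (pow_ne_zero 2 hp0.ne')
    · linarith
  -- the weights
  have hTA' : ∀ g, (pairCount (pairsOf qA) g : ℤ) = r + p + r * k g - (2 * r + 1) * kc g := fun g =>
    mul_left_cancel₀ hp0.ne' (by linear_combination hTA g)
  have hTB' : ∀ g, (pairCount (pairsOf qB) g : ℤ) =
      2 * p - 1 - r + (-1 - r) * k g + 2 * r * kc g := fun g =>
    mul_left_cancel₀ hp0.ne' (by linear_combination hTB g)
  -- natural numbers `c`, `M`
  have hθc : IsCharacter G (fun g => (θ : G → ℂ) g * (θ : G → ℂ) g) :=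
    CharInduce.IsChar.mul (IsIrr.isCharacter θ.2) (IsIrr.isCharacter θ.2)
  obtain ⟨c, hc⟩ := classInner_isChar_nat hθc (IsIrr.isCharacter θ.2)
  obtain ⟨M, hM⟩ := classInner_isChar_nat hθc (IsIrr.isCharacter χ.2)
  have S3 : ∑ g, k g * k g * k g = (c : ℤ) * Gc := by
    rw [classInner_def, inv_mul_eq_iff_eq_mul₀ hG0] at hc
    apply Int.cast_injective (α := ℂ)
    push_cast
    rw [hGc, Int.cast_natCast, mul_comm, ← hc]
    exact Finset.sum_congr rfl fun g _ => by rw [hk, map_intCast]
  have S3' : ∑ g, k g * k g * kc g = (M : ℤ) * Gc := by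
    rw [classInner_def, inv_mul_eq_iff_eq_mul₀ hG0] at hM
    apply Int.cast_injective (α := ℂ)
    push_cast
    rw [hGc, Int.cast_natCast, mul_comm, ← hM]
    exact Finset.sum_congr rfl fun g _ => by rw [hk, hkcv, map_intCast]
  have hcM : 1 ≤ c + M := by
    have h1 : ∑ g, fx Ω g * (k g - 1) ^ 2 = ((c : ℤ) + M) * Gc := by
      rw [Finset.sum_congr rfl (g := fun g => 1 - k g + (k g * k g * k g) - k g * k g + kc g -
          2 * (k g * kc g) + k g * k g * kc g) fun g _ => by simp only [hkc]; ring]
      simp only [Finset.sum_add_distrib, Finset.sum_sub_distrib, ← Finset.mul_sum, Skk, Skc, Sk, Sc,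
        S1, S3, S3']
      ring
    have h2 : fx Ω (1 : G) * (k 1 - 1) ^ 2 ≤ ∑ g, fx Ω g * (k g - 1) ^ 2 :=
      Finset.single_le_sum (f := fun g => fx Ω g * (k g - 1) ^ 2)
        (fun g _ => mul_nonneg (fx_nonneg g) (sq_nonneg _)) (Finset.mem_univ 1)
    rw [h.fx_one, hk1', h1] at h2
    have h3 : (0 : ℤ) < 3 * p * (2 * p - 1 - 1) ^ 2 := by
      have : (0 : ℤ) < 2 * p - 1 - 1 := by omega
      positivity
    by_contra hlt
    rw [show ((c : ℤ) + M) = 0 by omega, zero_mul] at h2
    linarith
  -- sums over the regular elements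
  set R := regEl G p
  have hw1 : (p : ℤ) * ∑ g ∈ R, k g * (k g - 1) = Gc - p * (2 * p - 1) * (2 * p - 2) := by
    have h1 := h.sum_reg (fun g => k g * (k g - 1)) 2 fun g hg => by rw [hksing g hg]; norm_num
    have h2 : ∑ g, k g * (k g - 1) = Gc := by
      rw [Finset.sum_congr rfl (g := fun g => k g * k g - k g) fun g _ => by ring,
        Finset.sum_sub_distrib, Skk, Sk, sub_zero]
    rw [h2, hk1', ← hGc] at h1
    exact mul_left_cancel₀ (two_ne_zero : (2 : ℤ) ≠ 0) (by linear_combination h1)
  have hwE : ∑ g ∈ R, k g * (k g - 1) * (2 * p - 1 - k g) = (2 - (c : ℤ)) * Gc := by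
    have h1 := h.sum_reg (fun g => k g * (k g - 1) * (2 * p - 1 - k g)) (4 * p) fun g hg => by
      rw [hksing g hg]; ring
    have h2 : ∑ g, k g * (k g - 1) * (2 * p - 1 - k g) = (2 * p - (c : ℤ)) * Gc := by
      rw [Finset.sum_congr rfl (g := fun g => 2 * (p : ℤ) * (k g * k g) - (2 * p - 1) * k g -
          k g * k g * k g) fun g _ => by ring]
      simp only [Finset.sum_sub_distrib, ← Finset.mul_sum, Skk, Sk, S3]
      ring
    rw [h2, hk1', ← hGc] at h1
    exact mul_left_cancel₀ (show (2 * (p : ℤ)) ≠ 0 by omega) (by linear_combination h1)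
  have hwF : ∑ g ∈ R, k g * (k g - 1) * (p - kc g) = (1 - (M : ℤ)) * Gc := by
    have h1 := h.sum_reg (fun g => k g * (k g - 1) * (p - kc g)) (2 * p) fun g hg => by
      rw [hksing g hg, hkcs g hg]; ring
    have h2 : ∑ g, k g * (k g - 1) * (p - kc g) = (p - (M : ℤ)) * Gc := by
      rw [Finset.sum_congr rfl (g := fun g => (p : ℤ) * (k g * k g) - p * k g -
          k g * k g * kc g + k g * kc g) fun g _ => by ring]
      simp only [Finset.sum_add_distrib, Finset.sum_sub_distrib, ← Finset.mul_sum, Skk, Sk, S3', Skc]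
      ring
    rw [h2, hkc1, ← hGc] at h1
    exact mul_left_cancel₀ (show (2 * (p : ℤ)) ≠ 0 by omega) (by linear_combination h1)
  have hw0 : ∀ g, 0 ≤ k g * (k g - 1) := fun g => by
    rcases le_or_gt (k g) 0 with e | e
    · exact mul_nonneg_of_nonpos_of_nonpos e (by omega)
    · exact mul_nonneg e.le (by omega)
  have hEpos : ∀ g ∈ R, 0 < 2 * (p : ℤ) - 1 - k g := fun g hg => by
    have := hklt g (mem_regEl.1 hg).2
    omega
  have hFpos : ∀ g ∈ R, 0 < (p : ℤ) - kc g := fun g hg => by
    have := hkclt g (mem_regEl.1 hg).2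
    omega
  -- `|G| = p f e`
  have hkey : c = 1 ∧ M = 0 ∨ Gc = p * (2 * p - 1) * (2 * p - 2) := by
    have hc2 : c ≤ 2 := by
      by_contra hlt
      have : (0 : ℤ) ≤ (2 - (c : ℤ)) * Gc := hwE ▸ Finset.sum_nonneg fun g hg =>
        mul_nonneg (hw0 g) (hEpos g hg).le
      have : (0 : ℤ) ≤ 2 - (c : ℤ) := (mul_nonneg_iff_of_pos_right hGpos).1 this
      omega
    have hM1 : M ≤ 1 := by
      have : (0 : ℤ) ≤ (1 - (M : ℤ)) * Gc := hwF ▸ Finset.sum_nonneg fun g hg =>
        mul_nonneg (hw0 g) (hFpos g hg).le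
      have : (0 : ℤ) ≤ 1 - (M : ℤ) := (mul_nonneg_iff_of_pos_right hGpos).1 this
      omega
    by_cases hc1 : c = 1 ∧ M = 0
    · exact Or.inl hc1
    right
    have hall : ∀ g ∈ R, k g * (k g - 1) = 0 := by
      intro g hg
      rcases (show M = 1 ∨ c = 2 by omega) with e | e
      · rw [e, Nat.cast_one, sub_self, zero_mul] at hwF
        have := (Finset.sum_eq_zero_iff_of_nonneg fun g hg => mul_nonneg (hw0 g) (hFpos g hg).le).1
          hwF g hg
        exact (mul_eq_zero.1 this).resolve_right (hFpos g hg).ne'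
      · rw [e, show ((2 : ℤ) - (2 : ℕ)) * Gc = 0 by norm_num] at hwE
        have := (Finset.sum_eq_zero_iff_of_nonneg fun g hg => mul_nonneg (hw0 g) (hEpos g hg).le).1
          hwE g hg
        exact (mul_eq_zero.1 this).resolve_right (hEpos g hg).ne'
    rw [Finset.sum_eq_zero hall, mul_zero] at hw1
    linarith
  rcases hkey with ⟨hc1, hM0⟩ | hord
  · -- impossible
    exfalso
    subst hc1 hM0
    push_cast at hwE hwF
    have hr1 : 0 ≤ 1 + r ∧ 0 ≤ 1 - r := by
      refine ⟨?_, ?_⟩
      · refine (mul_nonneg_iff_of_pos_right hGpos).1 ?_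
        have : ∑ g ∈ R, k g * (k g - 1) * (pairCount (pairsOf qA) g : ℤ) = (1 + r) * Gc := by
          rw [Finset.sum_congr rfl (g := fun g => -r * (k g * (k g - 1) * (2 * p - 1 - k g)) +
              (2 * r + 1) * (k g * (k g - 1) * (p - kc g))) fun g _ => by rw [hTA' g]; ring,
            Finset.sum_add_distrib, ← Finset.mul_sum, ← Finset.mul_sum, hwE, hwF]
          ring
        exact this ▸ Finset.sum_nonneg fun g _ => mul_nonneg (hw0 g) (Int.natCast_nonneg _)
      · refine (mul_nonneg_iff_of_pos_right hGpos).1 ?_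
        have : ∑ g ∈ R, k g * (k g - 1) * (pairCount (pairsOf qB) g : ℤ) = (1 - r) * Gc := by
          rw [Finset.sum_congr rfl (g := fun g => (1 + r) * (k g * (k g - 1) * (2 * p - 1 - k g)) +
              -2 * r * (k g * (k g - 1) * (p - kc g))) fun g _ => by rw [hTB' g]; ring,
            Finset.sum_add_distrib, ← Finset.mul_sum, ← Finset.mul_sum, hwE, hwF]
          ring
        exact this ▸ Finset.sum_nonneg fun g _ => mul_nonneg (hw0 g) (Int.natCast_nonneg _)
    obtain rfl : r = 1 := by
      rcases (show r = -1 ∨ r = 0 ∨ r = 1 by omega) with e | e | e <;> subst e <;> omega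
    obtain rfl : p = 5 := by omega
    -- restrict to a point stabiliser
    set H := stabilizer G x with hH
    letI : Fintype H := Fintype.ofFinite _
    have hH0 : (Nat.card H : ℂ) ≠ 0 := Nat.cast_ne_zero.2 Nat.card_pos.ne'
    have hHk : ∑ s : H, k (s : G) = S ∧ ∑ s : H, k (s : G) ^ 2 = 2 * S := by
      constructor
      · have h1 := h.sum_stabilizer hclk x
        rw [Finset.sum_congr rfl (g := fun g => k g + k g * k g + k g * kc g) (s₁ := Finset.univ)
          fun g _ => by simp only [hkc]; ring] at h1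
        simp only [Finset.sum_add_distrib, Sk, Skk, Skc, hGS] at h1
        push_cast at h1
        linarith
      · have h1 := h.sum_stabilizer (F := fun g => k g ^ 2) (fun c g => by simp only [hclk]) x
        rw [Finset.sum_congr rfl (g := fun g => k g * k g + k g * k g * k g + k g * k g * kc g)
          (s₁ := Finset.univ) fun g _ => by simp only [hkc]; ring] at h1
        simp only [Finset.sum_add_distrib, Skk, S3, S3', hGS] at h1
        push_cast at h1
        linarith
    set resθ : H → ℂ := fun s => (θ : G → ℂ) (s : G) with hres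
    have hresC : IsCharacter H resθ := (fun hh => CharInduce.IsChar.res hh H) (IsIrr.isCharacter θ.2)
    have hone : IsCharacter H (fun _ : H => (1 : ℂ)) := IsIrr.isCharacter isIrrCharacter_one
    set F : H → ℂ := fun s => resθ s - 1 with hF
    have hFirr : IsIrrCharacter H F := by
      refine H54.isIrr_of_norm_one (Finset.univ : Finset (Fin 2)) ![1, -1]
        ![resθ, fun _ => (1 : ℂ)] ?_ ?_ ?_ (d := 8) ?_ (by norm_num)
      · intro i _
        fin_cases i
        · exact hresC
        · exact hone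
      · funext s
        simp [Fin.sum_univ_two, hF, sub_eq_add_neg]
      · rw [classInner_def, inv_mul_eq_iff_eq_mul₀ hH0, mul_one,
          Finset.sum_congr rfl (g := fun s : H => (((k (s : G) - 1) ^ 2 : ℤ) : ℂ)) fun s _ => by
            simp only [hF, hres, hk, map_sub, map_intCast, map_one]; push_cast; ring,
          ← Int.cast_sum]
        have : ∑ s : H, (k (s : G) - 1) ^ 2 = S := by
          rw [Finset.sum_congr rfl (g := fun s : H => k (s : G) ^ 2 - 2 * k (s : G) + 1)
            fun s _ => by ring]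
          simp only [Finset.sum_add_distrib, Finset.sum_sub_distrib, ← Finset.mul_sum, hHk.1, hHk.2,
            Finset.sum_const, Finset.card_univ, nsmul_one, hSdef, Nat.card_eq_fintype_card]
          ring
        rw [this, hSdef, Int.cast_natCast]
      · simp only [hF, hres, OneMemClass.coe_one, hk, hk1']
        norm_num
    set φ : IrrCharacter H := ⟨F, hFirr⟩
    have hφd : charDegree (φ : H → ℂ) = 8 := by
      apply Nat.cast_injective (R := ℂ)
      rw [← apply_one_eq_charDegree]
      show F 1 = _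
      simp only [hF, hres, OneMemClass.coe_one, hk, hk1']
      norm_num
    have hφne : φ ≠ trivialIrr := fun e => by
      have := congrFun (congrArg Subtype.val e) 1
      simp only [φ, hF, hres, OneMemClass.coe_one, hk, hk1', trivialIrr] at this
      norm_num at this
    have hsmall : ∀ (C : H → ℂ), IsCharacter H C → ∀ n d : ℕ,
        classInner C (fun _ => (1 : ℂ)) = (n : ℂ) → C 1 = (d : ℂ) → d < n + 8 →
        classInner C F = 0 := by
      intro C hC n d hn hd hlt
      obtain ⟨n₂, hn₂⟩ := classInner_isChar_nat hC (IsIrr.isCharacter φ.2)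
      have h1 := add_degree_le hC hφne hn hn₂ hd
      rw [hφd] at h1
      rw [show classInner C F = classInner C (φ : H → ℂ) from rfl, hn₂, show n₂ = 0 by omega,
        Nat.cast_zero]
    -- the permutation character of `H` on the two orbits
    set resπ : H → ℂ := fun s => (fx Ω (s : G) : ℂ) with hresπ
    have hπ1 : classInner resπ F = 1 := by
      have e : resπ = (fun _ => (1 : ℂ)) + resθ + fun s : H => (χ : G → ℂ) (s : G) := by
        funext s; simp only [hresπ, hπ, hres, Pi.add_apply]
      have e2 : resθ = (fun _ => (1 : ℂ)) + F := by funext s; simp [hF]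
      have hz : classInner (fun _ : H => (1 : ℂ)) F = 0 :=
        classInner_irr_of_ne isIrrCharacter_one hFirr fun e' => hφne (Subtype.ext e'.symm)
      rw [e, classInner_add_left, classInner_add_left, e2, classInner_add_left, hz,
        classInner_irr_self hFirr, hsmall _ ((fun hh => CharInduce.IsChar.res hh H) (IsIrr.isCharacter χ.2)) 1 5]
      · ring
      · rw [classInner_def, Finset.sum_congr rfl (g := fun s : H => ((kc (s : G) : ℤ) : ℂ))
          fun s _ => by rw [hkcv]; simp, ← Int.cast_sum]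
        have h1 := h.sum_stabilizer hclc x
        rw [Finset.sum_congr rfl (g := fun g => kc g + k g * kc g + kc g * kc g) (s₁ := Finset.univ)
          fun g _ => by simp only [hkc]; ring] at h1
        simp only [Finset.sum_add_distrib, Sc, Skc, Scc, hGS] at h1
        rw [show ∑ s : H, kc (s : G) = S by push_cast at h1; linarith, hSdef, Int.cast_natCast,
          inv_mul_cancel₀ hH0, Nat.cast_one]
      · simp [hkcv, hkc1]
      · omega
    -- the decomposition by orbits
    have horbit : ∀ (q : Quotient (orbitRel G (Fin 2 ↪ Ω))) (d : ℕ),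
        (Nat.card {w : Ω // (x, w) ∈ pairsOf q} : ℤ) = d → d < 9 →
        classInner (fun s : H => (Nat.card {w : Ω // (x, w) ∈ pairsOf q ∧ (s : G) • w = w} : ℂ)) F = 0 := by
      intro q d hd hlt
      let T : SubMulAction H Ω :=
        { carrier := {w : Ω | (x, w) ∈ pairsOf q}
          smul_mem' := by
            rintro ⟨g, hg⟩ w hw
            show (x, g • w) ∈ pairsOf q
            have := pairsOf_inv g _ hw
            rwa [Prod.smul_mk, show g • x = x from hg] at this }
      haveI : Nonempty T := by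
        obtain ⟨⟨w, hw⟩⟩ := (Nat.card_pos_iff.1 (pairsOf_valency_pos q x)).1
        exact ⟨⟨w, hw⟩⟩
      haveI : IsPretransitive H T := ⟨fun u v => by
        obtain ⟨g, hg⟩ := pairsOf_trans u.2 v.2
        exact ⟨⟨g, congrArg Prod.fst hg⟩, Subtype.ext (congrArg Prod.snd hg)⟩⟩
      have he : ∀ s : H, Nat.card (fixedBy T s) =
          Nat.card {w : Ω // (x, w) ∈ pairsOf q ∧ (s : G) • w = w} := fun s =>
        Nat.card_congr
          { toFun := fun w => ⟨w.1.1, w.1.2, congrArg Subtype.val w.2⟩
            invFun := fun w => ⟨⟨w.1, w.2.1⟩, Subtype.ext w.2.2⟩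
            left_inv := fun _ => rfl
            right_inv := fun _ => rfl }
      simp only [← he]
      refine hsmall _ (S0157.isCharacter_perm T) 1 d ?_ ?_ (by omega)
      · have hX1 : Nat.card (Quotient (orbitRel H T)) = 1 := by
          refine Nat.card_eq_one_iff_unique.2 ⟨⟨fun u v => ?_⟩, ⟨Quotient.mk _ (Classical.arbitrary T)⟩⟩
          induction u using Quotient.inductionOn with
          | h u =>
            induction v using Quotient.inductionOn with
            | h v =>
              obtain ⟨g, rfl⟩ := MulAction.exists_smul_eq H v u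
              exact Quotient.sound ⟨g, rfl⟩
        rw [classInner_def]
        simp only [map_one, mul_one]
        rw [← Nat.cast_sum, S0157.orbit_count T, hX1, one_mul, Nat.cast_one, inv_mul_cancel₀ hH0]
      · show ((Nat.card (fixedBy T (1 : H)) : ℕ) : ℂ) = _
        rw [fixedBy_one_eq_univ, Nat.card_univ, show Nat.card T = Nat.card {w : Ω // (x, w) ∈ pairsOf q}
          from rfl]
        exact_mod_cast hd
    have hsplitπ : resπ = (fun _ => (1 : ℂ)) +
        (fun s : H => (Nat.card {w : Ω // (x, w) ∈ pairsOf qA ∧ (s : G) • w = w} : ℂ)) +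
        fun s : H => (Nat.card {w : Ω // (x, w) ∈ pairsOf qB ∧ (s : G) • w = w} : ℂ) := by
      funext s
      have hsx : (s : G) • x = x := s.2
      have hnat : Nat.card (fixedBy Ω (s : G)) =
          1 + Nat.card {w : Ω // (x, w) ∈ pairsOf qA ∧ (s : G) • w = w} +
            Nat.card {w : Ω // (x, w) ∈ pairsOf qB ∧ (s : G) • w = w} := by
        simp only [Nat.card_eq_fintype_card]
        have e : Fintype.card (fixedBy Ω (s : G)) =
            (Finset.univ.filter fun w : Ω => (s : G) • w = w).card := by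
          rw [← Fintype.card_subtype]; rfl
        rw [e, Fintype.card_subtype, Fintype.card_subtype, ← Finset.card_singleton x,
          ← Finset.card_union_of_disjoint, ← Finset.card_union_of_disjoint]
        · congr 1
          ext w
          simp only [Finset.mem_union, Finset.mem_filter, Finset.mem_univ, true_and,
            Finset.mem_singleton]
          constructor
          · intro hw
            by_cases hxw : w = x
            · exact Or.inl (Or.inl hxw)
            · by_cases hA : (x, w) ∈ pairsOf qA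
              · exact Or.inl (Or.inr ⟨hA, hw⟩)
              · refine Or.inr ⟨?_, hw⟩
                obtain ⟨q, hqz⟩ := mem_pairsOf_mk (G := G) (Ne.symm hxw)
                have hq' : q = qA ∨ q = qB := by
                  have h3 : ∀ q : Quotient (orbitRel G (Fin 2 ↪ Ω)), q = q₁ ∨ q = q₂ := fun q => by
                    have := huniv ▸ Set.mem_univ q
                    simpa using this
                  rcases h3 q with e | e <;> rcases h3 qA with e' | e' <;>
                    rcases h3 qB with e'' | e'' <;>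
                    first
                    | exact Or.inl (e.trans e'.symm)
                    | exact Or.inr (e.trans e''.symm)
                    | exact absurd (e'.trans e''.symm) hqq
                rcases hq' with e | e
                · exact absurd (e ▸ hqz) hA
                · exact e ▸ hqz
          · rintro ((rfl | hw) | hw)
            · exact hsx
            · exact hw.2
            · exact hw.2
        · refine Finset.disjoint_left.2 fun w h1 h2 => ?_
          simp only [Finset.mem_union, Finset.mem_filter, Finset.mem_univ, true_and,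
            Finset.mem_singleton] at h1 h2
          rcases h1 with rfl | h1
          · exact pairsOf_ne h2.1 rfl
          · exact pairsOf_disjoint hqq h1.1 h2.1
        · refine Finset.disjoint_left.2 fun w h1 h2 => ?_
          simp only [Finset.mem_filter, Finset.mem_univ, true_and, Finset.mem_singleton] at h1 h2
          exact pairsOf_ne h2.1 h1.symm
      simp only [hresπ, fx, hnat, Pi.add_apply]
      push_cast
      ring
    have hz : classInner (fun _ : H => (1 : ℂ)) F = 0 :=
      classInner_irr_of_ne isIrrCharacter_one hFirr fun e' => hφne (Subtype.ext e'.symm)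
    rw [hsplitπ, classInner_add_left, classInner_add_left, hz,
      horbit qA 6 (by rw [haval]; norm_num) (by norm_num),
      horbit qB 8 (by rw [hbval]; norm_num) (by norm_num)] at hπ1
    norm_num at hπ1
  · -- the order
    have hdvd := pairsOf_valency_dvd qB x
    obtain ⟨j, hj⟩ := hdvd
    have hj' : S = (3 * (p : ℤ) - 1 - (r + p * 1)) * j := by
      rw [hSdef, hj]; push_cast; rw [hbval]
    have hpf : (3 * r * (2 * r + 1)) * (6 * r ^ 2 + 3 * r - 1) = 3 * (2 * r * (3 * r + 1)) * j := by
      refine mul_left_cancel₀ hp0.ne' ?_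
      linear_combination ((p : ℤ) * (2 * p - 2 + 3 * r * (2 * r + 1)) - 3 * (p : ℤ) * j) * hrp -
        hord + hGS + 3 * (p : ℤ) * hj'
    have hr0 : r ≠ 0 := fun e => by subst e; omega
    have hd : (3 * r + 1) ∣ 4 := by
      have h2 : (2 * r + 1) * (6 * r ^ 2 + 3 * r - 1) = 2 * (3 * r + 1) * j :=
        mul_left_cancel₀ (show 3 * r ≠ 0 by omega) (by linear_combination hpf)
      refine ⟨2 * (3 * r + 1) * (6 * r + 1) - 8 + (6 * r + 1) - 18 * (j : ℤ), ?_⟩
      linear_combination (-9 : ℤ) * h2
    have := Int.le_of_dvd (by norm_num) hd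
    have := Int.le_of_dvd (by norm_num) (neg_dvd.2 hd)
    rcases (show r = -1 ∨ r = 0 ∨ r = 1 by omega) with e | e | e <;> subst e
    · omega
    · exact absurd rfl hr0
    · obtain rfl : p = 5 := by omega
      refine ⟨rfl, ?_⟩
      norm_num at hord
      rw [hGc] at hord
      exact_mod_cast hord

end Cfsg.Agent.H85.ThreeP
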