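import Cfsg.Agent.H84.PTwoRecognition
import Cfsg.Agent.H84.PrimeDegreeMoments
import Cfsg.Agent.S0157
import Mathlib.GroupTheory.GroupAction.Primitive
import Mathlib.GroupTheory.Transfer

/-!
# Simple transitive groups of degree `3 p` with Sylow normalizer of order `2 p`: first facts
-/

set_option linter.unusedSectionVars false
set_option linter.style.haveILetI false

namespace Cfsg.Agent.H85.ThreeP

open MulAction CharBasic BlockBasic CycOne


universe u v

variable {G : Type u} [Group G] [Finite G] {Ω : Type v} [Fintype Ω] [MulAction G Ω]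
  {p : ℕ} [hp : Fact p.Prime] {P : Sylow p G}

/-- The hypotheses. -/
structure Hyp (Ω : Type v) [Fintype Ω] [MulAction G Ω] (P : Sylow p G) : Prop where
  simple : IsSimpleGroup G
  nonComm : ¬ IsMulCommutative G
  three_lt : 3 < p
  faithful : FaithfulSMul G Ω
  trans : IsPretransitive G Ω
  card_pts : Fintype.card Ω = 3 * p
  card_norm : Nat.card (Subgroup.normalizer ((P : Subgroup G) : Set G)) = 2 * p

/-- The number of fixed points. -/
noncomputable def fx (Ω : Type v) [MulAction G Ω] (g : G) : ℤ := (Nat.card (fixedBy Ω g) : ℤ)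

variable (h : Hyp Ω P)

include h

theorem Hyp.five_le : 5 ≤ p := by
  have h3 := h.three_lt
  rcases Nat.lt_or_ge p 5 with h4 | h4
  · exact absurd hp.out (by rw [show p = 4 by omega]; norm_num)
  · exact h4

theorem Hyp.odd : p % 2 = 1 :=
  Nat.odd_iff.1 (hp.out.odd_of_ne_two (by have := h.three_lt; omega))

theorem Hyp.nonempty : Nonempty Ω :=
  Fintype.card_pos_iff.1 (by rw [h.card_pts]; have := hp.out.pos; omega)

theorem Hyp.stabilizer_card (x : Ω) : Nat.card (stabilizer G x) * (3 * p) = Nat.card G := by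
  haveI := h.trans
  have h1 := MulAction.index_stabilizer_of_transitive G x
  rw [Nat.card_eq_fintype_card, h.card_pts] at h1
  rw [← h1, Subgroup.card_mul_index]

theorem Hyp.three_p_dvd : 3 * p ∣ Nat.card G := by
  obtain ⟨x⟩ := h.nonempty
  exact ⟨_, by rw [← h.stabilizer_card x, mul_comm]⟩

theorem Hyp.card_sylow : Nat.card (P : Subgroup G) = p := by
  have h1 : Nat.card (P : Subgroup G) ∣ 2 * p := by
    rw [← h.card_norm]; exact Subgroup.card_dvd_of_le Subgroup.le_normalizer
  have hdvd : p ∣ Nat.card G := (dvd_mul_left p 3).trans h.three_p_dvd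
  obtain ⟨k, hk⟩ := IsPGroup.iff_card.1 P.isPGroup'
  have hk0 : k ≠ 0 := by
    rintro rfl
    exact P.not_dvd_index (by
      have := (P : Subgroup G).card_mul_index
      rw [hk, pow_zero, one_mul] at this
      rwa [this])
  have hk1 : k ≤ 1 := by
    by_contra hk1
    rw [hk] at h1
    have h2 : p ^ 2 ∣ 2 * p := (pow_dvd_pow p (by omega)).trans h1
    rw [pow_two] at h2
    have := Nat.le_of_dvd two_pos (Nat.dvd_of_mul_dvd_mul_right hp.out.pos h2)
    have := h.three_lt
    omega
  rw [hk, show k = 1 by omega, pow_one]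

theorem Hyp.eq_bot_or_top (H : Subgroup G) [H.Normal] : H = ⊥ ∨ H = ⊤ :=
  haveI := h.simple; Subgroup.Normal.eq_bot_or_eq_top inferInstance

theorem Hyp.not_normal : ¬ (P : Subgroup G).Normal := by
  intro hN
  rcases h.eq_bot_or_top (P : Subgroup G) with e | e
  · have := h.card_sylow
    rw [e, Subgroup.card_bot] at this
    exact hp.out.ne_one this.symm
  · have h1 := h.card_norm
    rw [Subgroup.normalizer_eq_top_iff.2 hN, Subgroup.card_top] at h1
    have h2 := h.card_sylow
    rw [e, Subgroup.card_top, h1] at h2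
    have := hp.out.pos
    omega

theorem Hyp.center_eq : Subgroup.center G = ⊥ :=
  (h.eq_bot_or_top (Subgroup.center G)).resolve_right fun e => h.nonComm
    ⟨⟨fun a b => (Subgroup.mem_center_iff.1 (e ▸ Subgroup.mem_top b : b ∈ Subgroup.center G) a)⟩⟩

theorem Hyp.cen_eq : cen P = (P : Subgroup G) := by
  classical
  haveI : Fintype G := Fintype.ofFinite _
  haveI := H86.Abelian.isMulCommutative_sylow P h.card_sylow
  refine (Subgroup.eq_of_le_of_card_ge (le_cen P h.card_sylow) ?_).symm
  by_contra hlt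
  have hd : Nat.card (cen P) ∣ 2 * p := by
    rw [← h.card_norm]; exact Subgroup.card_dvd_of_le (cen_le_nor P)
  obtain ⟨j, hj⟩ : p ∣ Nat.card (cen P) := by
    have := Subgroup.card_dvd_of_le (le_cen P h.card_sylow)
    rwa [h.card_sylow] at this
  rw [hj, mul_comm 2 p] at hd
  have hj2 := Nat.dvd_of_mul_dvd_mul_left hp.out.pos hd
  rw [h.card_sylow, not_le, hj] at hlt
  have hj' : j = 2 := by
    rcases (Nat.dvd_prime Nat.prime_two).1 hj2 with e | e
    · rw [e, mul_one] at hlt; omega
    · exact e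
  have hle : Subgroup.normalizer ((P : Subgroup G) : Set G) ≤
      Subgroup.centralizer ((P : Subgroup G) : Set G) := by
    refine (Subgroup.eq_of_le_of_card_ge (cen_le_nor P) ?_).ge
    rw [hj, hj']
    exact le_of_eq (h.card_norm.trans (mul_comm 2 p))
  have hcompl := MonoidHom.ker_transferSylow_isComplement' P hle
  set K := MonoidHom.ker (MonoidHom.transferSylow P hle)
  have hK : Nat.card K * p = Nat.card G := by
    rw [← h.card_sylow]; exact hcompl.card_mul_card
  rcases h.eq_bot_or_top K with e | e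
  · rw [e, Subgroup.card_bot, one_mul] at hK
    have := h.three_p_dvd
    rw [← hK] at this
    have := Nat.le_of_dvd hp.out.pos this
    have := hp.out.pos
    omega
  · rw [e, Subgroup.card_top] at hK
    have h0 := Nat.card_pos (α := G)
    have := Nat.eq_of_mul_eq_mul_left h0 (show Nat.card G * p = Nat.card G * 1 by omega)
    exact hp.out.ne_one this

theorem Hyp.th [Fintype G] : H84.PTwo.TH P := by
  classical
  refine ⟨h.card_sylow, h.five_le, fun g hg => ⟨g, h.cen_eq ▸ hg, 1, one_mem _, (mul_one g).symm⟩,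
    ?_, fun y _ hy => by rwa [h.center_eq, Subgroup.mem_bot] at hy⟩
  have h1 := (cenN P).card_mul_index
  rw [card_cenN, h.cen_eq, h.card_sylow] at h1
  exact Nat.eq_of_mul_eq_mul_left hp.out.pos (h1.trans (h.card_norm.trans (mul_comm 2 p)))

theorem Hyp.exists_ne_one : ∃ y ∈ (P : Subgroup G), y ≠ 1 := by
  haveI : Nontrivial (P : Subgroup G) :=
    Finite.one_lt_card_iff_nontrivial.1 (h.card_sylow.symm ▸ hp.out.one_lt)
  obtain ⟨y, hy⟩ := exists_ne (1 : (P : Subgroup G))
  exact ⟨y, y.2, fun e => hy (Subtype.ext e)⟩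

theorem Hyp.orderOf_eq {y : G} (hy : y ∈ (P : Subgroup G)) (hy1 : y ≠ 1) : orderOf y = p := by
  haveI : Fintype G := Fintype.ofFinite _
  rw [← Nat.card_zpowers, zpowers_eq P h.card_sylow hy hy1]; exact h.card_sylow

theorem Hyp.not_dvd_stabilizer (x : Ω) : ¬ p ∣ Nat.card (stabilizer G x) := by
  rintro ⟨l, hl⟩
  refine P.not_dvd_index ⟨3 * l, ?_⟩
  have h1 := (P : Subgroup G).card_mul_index
  rw [h.card_sylow, ← h.stabilizer_card x, hl] at h1
  exact Nat.eq_of_mul_eq_mul_left hp.out.pos (h1.trans (by ring))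

/-- A singular element fixes no point. -/
theorem Hyp.singular_smul_ne {g : G} (hg : p ∣ orderOf g) (x : Ω) : g • x ≠ x := fun e =>
  h.not_dvd_stabilizer x (hg.trans (by
    have := orderOf_dvd_natCard (G := stabilizer G x) ⟨g, e⟩
    rwa [← Subgroup.orderOf_coe] at this))

theorem Hyp.smul_ne {y : G} (hy : y ∈ (P : Subgroup G)) (hy1 : y ≠ 1) (x : Ω) : y • x ≠ x :=
  h.singular_smul_ne (by rw [h.orderOf_eq hy hy1]) x

theorem Hyp.fx_singular {g : G} (hg : p ∣ orderOf g) : fx Ω g = 0 := by
  haveI : IsEmpty (fixedBy Ω g) := ⟨fun a => h.singular_smul_ne hg a.1 a.2⟩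
  rw [fx, Nat.card_of_isEmpty, Nat.cast_zero]

theorem Hyp.fx_one : fx Ω (1 : G) = 3 * p := by
  rw [fx, fixedBy_one_eq_univ, Nat.card_univ, Nat.card_eq_fintype_card, h.card_pts]
  push_cast; ring

omit h in
theorem fx_nonneg (g : G) : 0 ≤ fx Ω g := Nat.cast_nonneg _

theorem Hyp.fx_lt {g : G} (hg : g ≠ 1) : fx Ω g < 3 * p := by
  have hle : Nat.card (fixedBy Ω g) < Nat.card Ω := by
    haveI := h.faithful
    rw [Nat.card_eq_fintype_card (α := Ω), Nat.card_coe_set_eq]
    rw [← Nat.card_eq_fintype_card, ← Set.ncard_univ]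
    refine Set.ncard_lt_ncard (Set.ssubset_univ_iff.2 fun e => hg ?_) (Set.toFinite _)
    exact eq_of_smul_eq_smul fun x : Ω => by
      rw [one_smul]; exact (Set.eq_univ_iff_forall.1 e x :)
  rw [Nat.card_eq_fintype_card (α := Ω), h.card_pts] at hle
  rw [fx]
  exact_mod_cast hle

/-- The regular elements different from one. -/
theorem Hyp.not_singular_one : ¬ p ∣ orderOf (1 : G) := by
  rw [orderOf_one, Nat.dvd_one]; exact hp.out.ne_one

open scoped Classical in
theorem Hyp.card_singular [Fintype G] :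
    2 * p * (Finset.univ.filter fun g : G => p ∣ orderOf g).card = Nat.card G * (p - 1) := by
  letI : Fintype (P : Subgroup G) := Fintype.ofFinite _
  have h1 := h.th.sum_singular h.center_eq (F := fun _ => (1 : ℂ)) fun _ _ => rfl
  simp only [Finset.sum_const, nsmul_eq_mul, mul_one] at h1
  rw [Finset.card_erase_of_mem (Finset.mem_univ _), Finset.card_univ, ← Nat.card_eq_fintype_card,
    show Nat.card (P : Subgroup G) = p from h.card_sylow] at h1
  have h2 : (Finset.univ.filter fun g : G => p ∣ orderOf g).card = Nat.card (Sylow p G) * (p - 1) :=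
    by exact_mod_cast h1
  rw [h2, h.th.card_eq h.center_eq]
  ring

/-- The regular elements different from `1`. -/
noncomputable def regEl (G : Type u) [Group G] [Fintype G] (p : ℕ) :
    Finset G :=
  open scoped Classical in Finset.univ.filter fun g : G => ¬ p ∣ orderOf g ∧ g ≠ 1

omit h in
theorem mem_regEl [Fintype G] {g : G} : g ∈ regEl G p ↔ ¬ p ∣ orderOf g ∧ g ≠ 1 := by
  classical
  simp [regEl]

/-- Sums over the regular elements of a function constant on the singular ones. -/
theorem Hyp.sum_reg [Fintype G] (F : G → ℤ) (c : ℤ) (hc : ∀ g, p ∣ orderOf g → F g = c) :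
    2 * (p : ℤ) * ∑ g ∈ regEl G p, F g =
      2 * p * (∑ g, F g) - 2 * p * F 1 - (Nat.card G : ℤ) * ((p : ℤ) - 1) * c := by
  classical
  have h1 := Finset.sum_filter_add_sum_filter_not Finset.univ (fun g : G => p ∣ orderOf g) F
  have h2 : (Finset.univ.filter fun g : G => ¬ p ∣ orderOf g) = insert 1 (regEl G p) := by
    ext g
    by_cases hg : g = 1
    · simp [hg, hp.out.ne_one]
    · simp [hg, mem_regEl]
  rw [h2, Finset.sum_insert (by simp [mem_regEl]),
    Finset.sum_congr rfl fun g hg => hc g (Finset.mem_filter.1 hg).2, Finset.sum_const,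
    nsmul_eq_mul] at h1
  have h3 : (2 : ℤ) * p * ((Finset.univ.filter fun g : G => p ∣ orderOf g).card : ℤ) =
      (Nat.card G : ℤ) * ((p : ℤ) - 1) := by
    have := congrArg (Nat.cast (R := ℤ)) h.card_singular
    push_cast [Nat.cast_sub hp.out.one_le] at this
    exact this
  rw [← h1]
  linear_combination -c * h3

/-- The orbits of a Sylow subgroup are regular. -/
theorem Hyp.dvd_card_of_invariant {y : G} (hy : y ∈ (P : Subgroup G)) (hy1 : y ≠ 1)
    (s : Set Ω) (hs : ∀ x, x ∈ s → y • x ∈ s) : p ∣ Nat.card s := by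
  classical
  haveI : Fintype G := Fintype.ofFinite _
  let T : SubMulAction (Subgroup.zpowers y) Ω :=
    { carrier := s
      smul_mem' := by
        rintro ⟨z, hz⟩ x hx
        obtain ⟨k, rfl⟩ := Submonoid.mem_powers_iff _ _ |>.1 (mem_powers_iff_mem_zpowers.2 hz)
        show y ^ k • x ∈ s
        induction k with
        | zero => rwa [pow_zero, one_smul]
        | succ k ih => rw [pow_succ', mul_smul]; exact hs _ (ih (Subgroup.pow_mem _ (Subgroup.mem_zpowers y) k)) }
  letI : Fintype T := Fintype.ofFinite _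
  have hPg : IsPGroup p (Subgroup.zpowers y) := IsPGroup.of_card (n := 1)
    (by rw [Nat.card_zpowers, h.orderOf_eq hy hy1, pow_one])
  have h1 := hPg.card_modEq_card_fixedPoints (α := T)
  haveI : IsEmpty (fixedPoints (Subgroup.zpowers y) T) := ⟨fun a => by
    have := congrArg Subtype.val (a.2 ⟨y, Subgroup.mem_zpowers y⟩)
    exact h.smul_ne hy hy1 _ this⟩
  rw [Nat.card_of_isEmpty (α := fixedPoints (Subgroup.zpowers y) T)] at h1
  exact (Nat.modEq_zero_iff_dvd.1 h1 : p ∣ Nat.card T)

end Cfsg.Agent.H85.ThreeP
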