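import Cfsg.Agent.H85.ThreeP.PairClasses
import Mathlib.Combinatorics.SimpleGraph.DegreeSum

/-!
# The case `θ(1) = p + 1`, `p = 5`, does not occur
-/

set_option linter.unusedSectionVars false
set_option linter.style.haveILetI false
set_option maxHeartbeats 1000000

open scoped ComplexConjugate

namespace Cfsg.Agent.H85.ThreeP

open MulAction CharBasic BlockBasic

universe u v

variable {G : Type u} [Group G] [Finite G] [Fintype G] {Ω : Type v} [Fintype Ω] [MulAction G Ω]
  {p : ℕ} [hp : Fact p.Prime] {P : Sylow p G} (h : Hyp Ω P)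
  {θ : IrrCharacter G} {Y : Finset (IrrCharacter G)} {a : ℤ}

include h

theorem Hyp.no_seven (D : Data P θ Y a) (ha : a = 1) (hp5 : p = 5)
    (hf : charDegree (θ : G → ℂ) = 6)
    (hπ : ∀ g, (fx Ω g : ℂ) = 1 + ∑ u ∈ Y, (u : G → ℂ) g) : False := by
  classical
  subst ha hp5
  haveI := h.trans
  obtain ⟨x⟩ := h.nonempty
  have hG0 : (Nat.card G : ℂ) ≠ 0 := Nat.cast_ne_zero.2 Nat.card_pos.ne'
  have hcard : Y.card = 2 := by have := D.card_Y; omega
  have hπfun : (fun g : G => (fx Ω g : ℂ)) =
      ((trivialIrr : IrrCharacter G) : G → ℂ) + ∑ u ∈ Y, (u : G → ℂ) := by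
    funext g; rw [hπ g, Pi.add_apply, Finset.sum_apply]; simp [trivialIrr]
  have hmult : ∀ ψ : IrrCharacter G, classInner (fun g : G => (fx Ω g : ℂ)) (ψ : G → ℂ) =
      (if trivialIrr = ψ then (1 : ℂ) else 0) + if ψ ∈ Y then 1 else 0 := by
    intro ψ
    rw [hπfun, classInner_add_left, classInner_sum_left, classInner_irrCharacter,
      Finset.sum_congr rfl fun u _ => classInner_irrCharacter u ψ, Finset.sum_ite_eq']
  have hsq : classInner (fun g : G => (fx Ω g : ℂ)) (fun g : G => (fx Ω g : ℂ)) = 3 := by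
    conv_lhs => arg 2; rw [hπfun]
    rw [classInner_add_right, classInner_sum_right, hmult,
      Finset.sum_congr rfl (g := fun _ => (1 : ℂ)) fun u hu => by
        rw [hmult, if_pos hu, if_neg fun e : trivialIrr = u => D.triv_notMem (e ▸ hu), zero_add],
      if_pos rfl, if_neg D.triv_notMem, Finset.sum_const, hcard]
    norm_num
  have hr2 : Nat.card (Quotient (orbitRel G (Fin 2 ↪ Ω))) = 2 := by
    rw [classInner_def, inv_mul_eq_iff_eq_mul₀ hG0] at hsq
    have h1 := h.sum_fx_pair
    have h2 : ∑ g : G, fx Ω g * (fx Ω g - 1) = 2 * (Nat.card G : ℤ) := by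
      apply Int.cast_injective (α := ℂ)
      have h3 := congrArg (Int.cast : ℤ → ℂ) h.sum_fx
      push_cast at h3 ⊢
      simp only [map_intCast] at hsq
      rw [Finset.sum_congr rfl (g := fun g : G => (fx Ω g : ℂ) * fx Ω g - fx Ω g) fun g _ => by ring,
        Finset.sum_sub_distrib, hsq, h3]
      ring
    rw [h2] at h1
    exact_mod_cast (mul_right_cancel₀ (Nat.cast_ne_zero.2 Nat.card_pos.ne') h1.symm :)
  obtain ⟨q₁, q₂, hq, huniv⟩ := Nat.card_eq_two_iff.1 hr2
  have hsplit : ∀ q : Quotient (orbitRel G (Fin 2 ↪ Ω)), q = q₁ ∨ q = q₂ := fun q => by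
    have := huniv ▸ Set.mem_univ q
    simpa using this
  -- an involution
  obtain ⟨s, hs⟩ : ∃ s : G, orderOf s = 2 := by
    haveI : Fact (Nat.Prime 2) := ⟨Nat.prime_two⟩
    refine exists_prime_orderOf_dvd_card' 2 ((dvd_mul_right 2 5).trans ?_)
    rw [← h.card_norm]
    exact Subgroup.card_subgroup_dvd_card _
  have hs1 : s ≠ 1 := fun e => by rw [e, orderOf_one] at hs; omega
  obtain ⟨z, hz⟩ : ∃ z : Ω, s • z ≠ z := by
    by_contra hno
    push Not at hno
    haveI := h.faithful
    exact hs1 (eq_of_smul_eq_smul fun z : Ω => by rw [hno z, one_smul])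
  obtain ⟨q, hzq⟩ := mem_pairsOf_mk (G := G) (Ne.symm hz)
  have hss : s * s = 1 := by rw [← pow_two, ← hs, pow_orderOf_eq_one]
  have hswap : ∀ u v : Ω, (u, v) ∈ pairsOf q → (v, u) ∈ pairsOf q := by
    intro u v huv
    obtain ⟨g, hg⟩ := pairsOf_trans hzq huv
    rw [Prod.smul_mk, Prod.mk.injEq] at hg
    have := pairsOf_inv (g * s) _ hzq
    rwa [Prod.smul_mk, mul_smul, mul_smul, ← mul_smul s s, hss, one_smul, hg.1, hg.2] at this
  have hsym : ∀ q' : Quotient (orbitRel G (Fin 2 ↪ Ω)), ∀ u v : Ω, (u, v) ∈ pairsOf q' →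
      (v, u) ∈ pairsOf q' := by
    intro q' u v huv
    by_cases e : q' = q
    · subst e; exact hswap u v huv
    obtain ⟨q'', hvu⟩ := mem_pairsOf_mk (G := G) (pairsOf_ne huv).symm
    rcases hsplit q' with e1 | e1 <;> rcases hsplit q with e2 | e2 <;> rcases hsplit q'' with e3 | e3 <;>
      first
      | exact absurd (e1.trans e2.symm) e
      | exact (e3.trans e1.symm) ▸ hvu
      | exact absurd huv (pairsOf_disjoint (Ne.symm e) (hswap v u ((e3.trans e2.symm) ▸ hvu)))
  -- the valency
  have hseven : ∀ q' : Quotient (orbitRel G (Fin 2 ↪ Ω)),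
      7 ∣ Nat.card {w : Ω // (x, w) ∈ pairsOf q'} := by
    intro q'
    set V := Nat.card {w : Ω // (x, w) ∈ pairsOf q'} with hV
    set T : G → ℕ := fun g => pairCount (pairsOf q') g with hTdef
    have hcl : IsClassFunction G (fun g => (T g : ℂ)) := fun g c => by
      simp only [hTdef]; rw [pairCount_conj (fun g z => pairsOf_inv g z) c g]
    have hval : classInner (fun g => (T g : ℂ)) ((trivialIrr : IrrCharacter G) : G → ℂ) = V := by
      rw [classInner_def]
      simp only [trivialIrr, map_one, mul_one]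
      rw [inv_mul_eq_iff_eq_mul₀ hG0]
      exact_mod_cast sum_pairCount (A := pairsOf q') (fun g z => pairsOf_inv g z) x
    let β : IrrCharacter G → ℂ := fun u => classInner (fun g => (T g : ℂ)) (u : G → ℂ)
    have hexp : ∀ g, (T g : ℂ) = V + ∑ u ∈ Y, β u * (u : G → ℂ) g := by
      intro g
      conv_lhs => rw [show (T g : ℂ) = (fun g => (T g : ℂ)) g from rfl, classFunction_expansion hcl]
      simp only [Finset.sum_apply, Pi.smul_apply, smul_eq_mul]
      rw [← Finset.sum_subset (Finset.subset_univ (insert trivialIrr Y)) fun ψ _ hψ => ?_,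
        Finset.sum_insert D.triv_notMem, hval]
      · simp [trivialIrr, β]
      · simp only [Finset.mem_insert, not_or] at hψ
        refine mul_eq_zero_of_left ?_ _
        have h0 : ∑ g : G, (Nat.card (fixedBy Ω g) : ℂ) * (ψ : G → ℂ) g = 0 := by
          have h2 := hmult ψ
          rw [if_neg (Ne.symm hψ.1), if_neg hψ.2, add_zero, classInner_def, mul_eq_zero] at h2
          have := congrArg (starRingEnd ℂ) (h2.resolve_left (inv_ne_zero hG0))
          rw [map_zero, map_sum] at this
          rw [← this]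
          refine Finset.sum_congr rfl fun g _ => ?_
          rw [map_mul, Complex.conj_conj, map_intCast, fx, Int.cast_natCast]
        have h3 := congrArg (starRingEnd ℂ) (sum_pairCount_eq_zero (A := pairsOf q') ψ h0)
        rw [map_zero, map_sum] at h3
        rw [classInner_def]
        refine mul_eq_zero_of_right _ (Eq.trans (Finset.sum_congr rfl fun g _ => ?_) h3)
        simp only [hTdef, map_mul, Complex.conj_natCast]
    have hu1 : ∀ u ∈ Y, (u : G → ℂ) 1 = 7 := fun u hu => by
      have := h.degree_Y D hu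
      rw [hf] at this
      rw [apply_one_eq_charDegree, show charDegree (u : G → ℂ) = 7 by omega]
      norm_num
    have h1 := hexp 1
    rw [Finset.sum_congr rfl fun u hu => by rw [hu1 u hu], ← Finset.sum_mul,
      show T 1 = 0 from ?_] at h1
    · letI : Fintype (P : Subgroup G) := Fintype.ofFinite _
      have h2 : (∑ y ∈ Finset.univ.erase (1 : (P : Subgroup G)), (T (y : G) : ℂ)) =
          4 * V + -2 * ∑ u ∈ Y, β u := by
        rw [Finset.sum_congr rfl fun (y : (P : Subgroup G)) _ => hexp (y : G), Finset.sum_add_distrib,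
          Finset.sum_comm (t := Y), Finset.sum_congr rfl (s₁ := Y) fun u hu => by
            rw [← Finset.mul_sum, D.sum_P u hu], Finset.sum_const, Finset.card_erase_of_mem
            (Finset.mem_univ _), Finset.card_univ, ← Nat.card_eq_fintype_card,
          show Nat.card (P : Subgroup G) = 5 from h.card_sylow, ← Finset.sum_mul, nsmul_eq_mul]
        push_cast
        ring
      have h3 : 7 * ∑ y ∈ Finset.univ.erase (1 : (P : Subgroup G)), T (y : G) = 30 * V := by
        apply Nat.cast_injective (R := ℂ)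
        push_cast
        rw [h2]
        push_cast at h1
        linear_combination (2 : ℂ) * h1
      exact (Nat.Coprime.dvd_of_dvd_mul_left (show Nat.Coprime 7 30 by norm_num) ⟨_, h3.symm⟩)
    · simp only [hTdef, pairCount, one_smul]
      haveI : IsEmpty {z : Ω // (z, z) ∈ pairsOf q'} := ⟨fun z => pairsOf_ne z.2 rfl⟩
      exact Nat.card_of_isEmpty
  have hval7 : Nat.card {w : Ω // (x, w) ∈ pairsOf q₁} = 7 := by
    obtain ⟨i, hi⟩ := hseven q₁
    obtain ⟨j, hj⟩ := hseven q₂
    have h1 := pairsOf_valency_pos q₁ x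
    have h2 := pairsOf_valency_pos q₂ x
    have h3 : Nat.card {w : Ω // (x, w) ∈ pairsOf q₁} + Nat.card {w : Ω // (x, w) ∈ pairsOf q₂} ≤ 14 := by
      simp only [Nat.card_eq_fintype_card, Fintype.card_subtype]
      rw [← Finset.card_union_of_disjoint (Finset.disjoint_filter.2 fun w _ h1 h2 =>
        pairsOf_disjoint hq h1 h2)]
      refine (Finset.card_le_card (t := Finset.univ.erase x) fun w hw => ?_).trans ?_
      · simp only [Finset.mem_union, Finset.mem_filter, Finset.mem_univ, true_and] at hw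
        refine Finset.mem_erase.2 ⟨fun e => ?_, Finset.mem_univ _⟩
        rcases hw with hw | hw <;> exact pairsOf_ne hw e.symm
      · rw [Finset.card_erase_of_mem (Finset.mem_univ _), Finset.card_univ, h.card_pts]
    omega
  -- handshake
  let Γ : SimpleGraph Ω :=
    { Adj := fun u v => (u, v) ∈ pairsOf q₁
      symm := ⟨fun u v huv => hsym q₁ u v huv⟩
      loopless := ⟨fun u hu => pairsOf_ne hu rfl⟩ }
  have hdeg : ∀ u : Ω, Γ.degree u = 7 := by
    intro u
    rw [← SimpleGraph.card_neighborSet_eq_degree, ← hval7, ← Nat.card_eq_fintype_card]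
    obtain ⟨c, rfl⟩ := MulAction.exists_smul_eq G x u
    refine Nat.card_congr ((MulAction.toPerm c⁻¹).subtypeEquiv fun w => ?_)
    show (c • x, w) ∈ pairsOf q₁ ↔ (x, c⁻¹ • w) ∈ pairsOf q₁
    constructor
    · intro hh; simpa [Prod.smul_mk] using pairsOf_inv c⁻¹ _ hh
    · intro hh; simpa [Prod.smul_mk] using pairsOf_inv c _ hh
  have heven := Γ.even_card_odd_degree_vertices
  rw [Finset.filter_true_of_mem fun u _ => by rw [hdeg u]; decide, Finset.card_univ, h.card_pts] at heven
  norm_num [Nat.even_iff] at heven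

end Cfsg.Agent.H85.ThreeP
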