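import Cfsg.Agent.H85.ThreeP.Block
import Cfsg.Agent.Linear.TwoSL

/-!
# The case `θ(1) = p - 1` is imprimitive
-/

set_option linter.unusedSectionVars false
set_option linter.style.haveILetI false

namespace Cfsg.Agent.H85.ThreeP

open MulAction CharBasic BlockBasic CycOne

universe u v

/-- In a group with abelian centralizers the Sylow subgroups have trivial intersection, so their
number is congruent to one modulo their order. -/
theorem card_sylow_eq_one_add {M : Type*} [Group M] [Finite M] {r : ℕ} [Fact r.Prime]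
    (hcc : ∀ t : M, t ≠ 1 → ∀ a b : M, Commute a t → Commute b t → Commute a b) (S : Sylow r M) :
    ∃ k : ℕ, Nat.card (Sylow r M) = 1 + k * Nat.card (S : Subgroup M) := by
  classical
  have hab : ∀ Q : Sylow r M, ∀ a ∈ (Q : Subgroup M), ∀ b ∈ (Q : Subgroup M), Commute a b := by
    intro Q a ha b hb
    by_cases ha1 : a = 1
    · subst ha1; exact Commute.one_left b
    haveI : Nontrivial (Q : Subgroup M) :=
      (Subgroup.nontrivial_iff_exists_ne_one _).2 ⟨a, ha, ha1⟩
    haveI : Nontrivial (Subgroup.center (Q : Subgroup M)) := Q.2.center_nontrivial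
    obtain ⟨z, hz⟩ := exists_ne (1 : Subgroup.center (Q : Subgroup M))
    refine hcc (z : (Q : Subgroup M)) (fun e => hz (Subtype.ext (Subtype.ext e))) a b ?_ ?_
    · exact congrArg Subtype.val (Subgroup.mem_center_iff.1 z.2 ⟨a, ha⟩)
    · exact congrArg Subtype.val (Subgroup.mem_center_iff.1 z.2 ⟨b, hb⟩)
  have hTI : ∀ Q : Sylow r M, ∀ t ∈ (S : Subgroup M), t ∈ (Q : Subgroup M) → t ≠ 1 → Q = S := by
    intro Q t htS htQ ht
    have hle : (S : Subgroup M) ≤ Subgroup.normalizer ((Q : Subgroup M) : Set M) := by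
      intro a ha
      refine Subgroup.centralizer_le_normalizer _ (Subgroup.mem_centralizer_iff.2 fun b hb => ?_)
      exact (hcc t ht a b (hab S a ha t htS) (hab Q b hb t htQ)).eq.symm
    have h1 := S.2.to_sup_of_normal_right' Q.2 hle
    exact Sylow.ext ((Q.3 h1 le_sup_right).symm.trans (S.3 h1 le_sup_left))
  let T : SubMulAction (S : Subgroup M) (Sylow r M) :=
    { carrier := {Q | Q ≠ S}
      smul_mem' := fun s Q hQ e => hQ (smul_left_cancel s (e.trans
        (Sylow.smul_eq_iff_mem_normalizer.2 (Subgroup.le_normalizer s.2)).symm)) }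
  have hfree : ∀ Q : T, stabilizer (S : Subgroup M) Q = ⊥ := by
    rintro ⟨Q, hQ⟩
    refine (Subgroup.eq_bot_iff_forall _).2 fun s hs => ?_
    by_contra hs1
    have h1 : (s : M) ∈ Subgroup.normalizer ((Q : Subgroup M) : Set M) :=
      Sylow.smul_eq_iff_mem_normalizer.1 (congrArg Subtype.val (mem_stabilizer_iff.1 hs))
    have h2 : (s : M) ∈ (S : Subgroup M) ⊓ Subgroup.normalizer (Q : Set M) := ⟨s.2, h1⟩
    rw [S.2.inf_normalizer_sylow] at h2
    exact hQ (hTI Q s h2.1 h2.2 fun e => hs1 (Subtype.ext e))
  refine ⟨Nat.card (Quotient (orbitRel (S : Subgroup M) T)), ?_⟩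
  rw [← Nat.card_prod, ← Nat.card_congr (selfEquivOrbitsQuotientProd hfree),
    Nat.card_congr (Equiv.sumCompl (fun Q : Sylow r M => Q = S)).symm, Nat.card_sum,
    Nat.card_unique]
  rfl

/-- In `SL(2, q)` with `q` even the centralizers of nontrivial elements are abelian. -/
theorem sl_commute {F : Type*} [Field F] [Fintype F] {m : ℕ} (hF : Fintype.card F = 2 ^ m)
    {t : Matrix.SpecialLinearGroup (Fin 2) F} (ht : t ≠ 1)
    {a b : Matrix.SpecialLinearGroup (Fin 2) F} (ha : Commute a t) (hb : Commute b t) :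
    Commute a b := by
  refine Linear.centralizer_comm (g := t) (fun hs => ?_)
    (Subgroup.mem_centralizer_singleton_iff.2 ha.eq) (Subgroup.mem_centralizer_singleton_iff.2 hb.eq)
  have h2 : (2 : F) = 0 := by
    have h1 := FiniteField.cast_card_eq_zero F
    rw [hF] at h1
    push_cast at h1
    exact eq_zero_of_pow_eq_zero h1
  rcases Linear.isScalarTwo_SL_iff.1 hs with e | e
  · exact ht e
  · refine ht (e.trans (Subtype.ext (Matrix.ext fun i j => ?_)))
    have : (-1 : F) = 1 := by linear_combination -h2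
    fin_cases i <;> fin_cases j <;> simp [this]

variable {G : Type u} [Group G] [Finite G] [Fintype G] {Ω : Type v} [Fintype Ω] [MulAction G Ω]
  {p : ℕ} [hp : Fact p.Prime] {P : Sylow p G} (h : Hyp Ω P)
  {θ : IrrCharacter G} {Y : Finset (IrrCharacter G)} {a : ℤ}

include h

/-- A primitive action does not allow `θ(1) = p - 1`. -/
theorem Hyp.no_special (D : Data P θ Y a) (ha : a = -1)
    (hf : charDegree (θ : G → ℂ) + 1 = p) (hpr : IsPreprimitive G Ω) : False := by
  classical
  subst ha
  haveI := h.trans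
  haveI := hpr
  have h5 := h.five_le
  have hodd := h.odd
  obtain ⟨u, hu⟩ : ∃ u, u ∈ Y := Finset.card_pos.1 (by have := D.card_Y; omega)
  have hud : charDegree (u : G → ℂ) = p - 2 := by have := h.degree_Y D hu; omega
  have hfaith := h.faithful_irr u fun e => D.triv_notMem (e ▸ hu)
  obtain ⟨-, -, hcard, -⟩ := h.th.core h.center_eq hud hfaith
  obtain ⟨x⟩ := h.nonempty
  haveI : Nontrivial Ω := Fintype.one_lt_card_iff_nontrivial.1 (by rw [h.card_pts]; omega)
  have hmax : IsCoatom (stabilizer G x) := IsPreprimitive.isCoatom_stabilizer_of_isPreprimitive G x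
  set M := stabilizer G x with hMdef
  have hM := h.stabilizer_card x
  rw [← hMdef] at hM
  have hidx : M.index = 3 * p := by
    rw [hMdef, index_stabilizer_of_transitive, Nat.card_eq_fintype_card, h.card_pts]
  have hM3 : Nat.card M * 3 = (p - 1) * (p - 2) := by
    refine Nat.eq_of_mul_eq_mul_right hp.out.pos ?_
    rw [mul_assoc, hM, hcard]; ring
  rcases Nat.lt_or_ge 5 p with h6 | h6
  · obtain ⟨m, F, iF, iFt, hpm, hF, ⟨e⟩⟩ := h.th.iso_special h.center_eq h6 hud hfaith
    have hcc : ∀ t : G, t ≠ 1 → ∀ g g' : G, Commute g t → Commute g' t → Commute g g' := by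
      intro t ht g g' hg hg'
      have h1 := sl_commute hF (t := e t) ((map_ne_one_iff _ e.injective).2 ht) (hg.map e) (hg'.map e)
      simpa using h1.map e.symm
    set q := 2 ^ m with hq
    have hp1 : p - 1 = q := by omega
    have hp2 : p - 2 = q - 1 := by omega
    rw [hp1, hp2] at hM3 hcard
    have hqM : q ∣ Nat.card M := by
      refine (Nat.Coprime.pow_left m (show Nat.Coprime 2 3 by norm_num)).dvd_of_dvd_mul_right ?_
      exact Dvd.intro _ hM3.symm
    obtain ⟨r, hr⟩ := hqM
    have hr3 : r * 3 = q - 1 := by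
      rw [hr, mul_assoc] at hM3
      exact Nat.eq_of_mul_eq_mul_left (by omega) hM3
    haveI : Fact (Nat.Prime 2) := ⟨Nat.prime_two⟩
    have hqeven : 2 ∣ q := by omega
    have hrodd : Nat.Coprime q r :=
      Nat.Coprime.pow_left m (Nat.prime_two.coprime_iff_not_dvd.2 (by omega))
    let S : Sylow 2 M := default
    obtain ⟨l, hl⟩ := IsPGroup.iff_card.1 S.2
    have hSM := (S : Subgroup M).card_mul_index
    have hSq : Nat.card (S : Subgroup M) = q := by
      refine Nat.dvd_antisymm ?_ ?_
      · refine Nat.Coprime.dvd_of_dvd_mul_right ?_ (hr ▸ Dvd.intro _ hSM)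
        rw [hl]
        exact Nat.Coprime.pow_left l (Nat.prime_two.coprime_iff_not_dvd.2 (by omega))
      · refine Nat.Coprime.dvd_of_dvd_mul_right ?_ (Dvd.intro _ (hSM.trans hr).symm)
        exact Nat.Coprime.pow_left m (Nat.prime_two.coprime_iff_not_dvd.2 S.not_dvd_index)
    have hSidx : (S : Subgroup M).index = r := by
      rw [hSq, hr] at hSM
      exact Nat.eq_of_mul_eq_mul_left (by omega) hSM
    have hccM : ∀ t : M, t ≠ 1 → ∀ g g' : M, Commute g t → Commute g' t → Commute g g' := by
      intro t ht g g' hg hg'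
      exact Subtype.ext (hcc (t : G) (fun e1 => ht (Subtype.ext e1)) g g'
        (congrArg Subtype.val hg.eq) (congrArg Subtype.val hg'.eq)).eq
    obtain ⟨k, hk⟩ := card_sylow_eq_one_add hccM S
    rw [hSq] at hk
    have hk0 : k = 0 := by
      have h1 := Nat.le_of_dvd (by omega) (hSidx ▸ S.card_dvd_index)
      rcases Nat.eq_zero_or_pos k with e0 | e0
      · exact e0
      · exfalso
        have := Nat.le_mul_of_pos_left q e0
        omega
    haveI : Subsingleton (Sylow 2 M) :=
      (Nat.card_eq_one_iff_unique.1 (by rw [hk, hk0, zero_mul, add_zero])).1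
    have hSn : (S : Subgroup M).Normal := S.normal_of_subsingleton
    set S' := (S : Subgroup M).map M.subtype with hS'
    have hS'q : Nat.card S' = q := by
      rw [hS', Nat.card_congr ((S : Subgroup M).equivMapOfInjective _ M.subtype_injective).symm.toEquiv,
        hSq]
    obtain ⟨T, hT⟩ := (IsPGroup.of_card (p := 2) (n := m) hS'q).exists_le_sylow
    have hTq : (T : Subgroup G) = S' := by
      refine (Subgroup.eq_of_le_of_card_ge hT ?_).symm
      rw [hS'q]
      obtain ⟨l', hl'⟩ := IsPGroup.iff_card.1 T.2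
      refine Nat.le_of_dvd (by omega) (Nat.Coprime.dvd_of_dvd_mul_right (n := p * (q - 1)) ?_ ?_)
      · rw [hl']
        refine Nat.Coprime.pow_left l' (Nat.prime_two.coprime_iff_not_dvd.2 fun h2 => ?_)
        rcases Nat.prime_two.dvd_mul.1 h2 with h2 | h2 <;> omega
      · refine (Subgroup.card_subgroup_dvd_card _).trans ?_
        rw [hcard]; exact dvd_of_eq (by ring)
    have hMN : M ≤ Subgroup.normalizer ((T : Subgroup G) : Set G) := by
      rw [hTq, hS']
      intro g hg
      exact Subgroup.le_normalizer_map M.subtype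
        ⟨⟨g, hg⟩, Subgroup.normalizer_eq_top_iff.2 hSn ▸ Subgroup.mem_top _, rfl⟩
    rcases hmax.le_iff.1 hMN with e1 | e1
    · haveI := Subgroup.normalizer_eq_top_iff.1 e1
      rcases h.eq_bot_or_top (T : Subgroup G) with e2 | e2
      · rw [hTq] at e2
        rw [e2, Subgroup.card_bot] at hS'q
        omega
      · rw [hTq] at e2
        rw [e2, Subgroup.card_top, hcard] at hS'q
        have : q * 1 < q * (p * (q - 1)) :=
          Nat.mul_lt_mul_of_pos_left (one_lt_mul_of_lt_of_le hp.out.one_lt (by omega)) (by omega)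
        have : p * q * (q - 1) = q * (p * (q - 1)) := by ring
        omega
    · obtain ⟨k', hk'⟩ := card_sylow_eq_one_add hcc T
      rw [T.card_eq_index_normalizer, show Subgroup.normalizer (T : Set G) = M from e1, hidx, hTq, hS'q] at hk'
      have hd : q ∣ 2 := by
        have h1 : q ∣ k' * q := dvd_mul_left _ _
        rw [show k' * q = 3 * q + 2 by omega] at h1
        exact (Nat.dvd_add_right (dvd_mul_left q 3)).1 h1
      have := Nat.le_of_dvd two_pos hd
      omega
  · obtain rfl : p = 5 := by omega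
    haveI : Fact (Nat.Prime 2) := ⟨Nat.prime_two⟩
    have hM4 : Nat.card M = 4 := by omega
    have hG60 : Nat.card G = 60 := by rw [hcard]
    obtain ⟨T, hT⟩ := (IsPGroup.of_card (p := 2) (n := 2) (G := M) (by rw [hM4]; rfl)).exists_le_sylow
    have hTM : (T : Subgroup G) = M := by
      refine (Subgroup.eq_of_le_of_card_ge hT ?_).symm
      rw [hM4]
      obtain ⟨l', hl'⟩ := IsPGroup.iff_card.1 T.2
      refine Nat.le_of_dvd (by omega) (Nat.Coprime.dvd_of_dvd_mul_right (n := 15) ?_ ?_)
      · rw [hl']; exact Nat.Coprime.pow_left l' (by norm_num)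
      · exact (Subgroup.card_subgroup_dvd_card _).trans (by rw [hG60])
    have hN : M ≤ Subgroup.normalizer ((T : Subgroup G) : Set G) := hTM ▸ Subgroup.le_normalizer
    rcases hmax.le_iff.1 hN with e1 | e1
    · haveI := Subgroup.normalizer_eq_top_iff.1 e1
      rcases h.eq_bot_or_top (T : Subgroup G) with e2 | e2
      · rw [hTM] at e2; rw [e2, Subgroup.card_bot] at hM4; omega
      · rw [hTM] at e2; exact hmax.1 e2
    · have hle : Subgroup.normalizer ((T : Subgroup G) : Set G) ≤
          Subgroup.centralizer ((T : Subgroup G) : Set G) := by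
        rw [e1, hTM]
        intro g hg
        refine Subgroup.mem_centralizer_iff.2 fun g' hg' => ?_
        exact congrArg Subtype.val
          ((IsPGroup.isMulCommutative_of_card_eq_prime_sq (G := M) (p := 2) (by rw [hM4]; rfl)).is_comm.comm
            ⟨g', hg'⟩ ⟨g, hg⟩)
      have hc := MonoidHom.ker_transferSylow_isComplement' T hle
      have h1 := hc.card_mul_card
      rw [show Nat.card (T : Subgroup G) = 4 by rw [hTM, hM4]] at h1
      rcases h.eq_bot_or_top (MonoidHom.ker (MonoidHom.transferSylow T hle)) with e2 | e2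
      · rw [e2, Subgroup.card_bot] at h1; omega
      · rw [e2, Subgroup.card_top] at h1; omega

end Cfsg.Agent.H85.ThreeP
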